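import Mathlib

/-!
# Groups of degree `3p`: arithmetic
-/

set_option autoImplicit false

namespace CfsgLib.DegreeThreeP

theorem two_part {a b u v : ℕ} (hu : Odd u) (hv : Odd v) (h : 2 ^ a * u = 2 ^ b * v) : a = b := by
  wlog hab : a ≤ b generalizing a b u v
  · exact (this hv hu h.symm (le_of_not_ge hab)).symm
  obtain ⟨d, rfl⟩ := Nat.exists_eq_add_of_le hab
  rw [pow_add, mul_assoc] at h
  have h' := Nat.eq_of_mul_eq_mul_left (by positivity : 0 < 2 ^ a) h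
  rcases Nat.eq_zero_or_pos d with rfl | hd
  · omega
  · exact absurd hu (Nat.not_odd_iff_even.2 (h' ▸ ((Nat.even_pow.2 ⟨even_two, hd.ne'⟩).mul_right v)))

theorem exists_two_part {n : ℕ} (hn : n ≠ 0) : ∃ k o : ℕ, Odd o ∧ n = 2 ^ k * o := by
  obtain ⟨k, o, ho, h⟩ := Nat.exists_eq_pow_mul_and_not_dvd hn 2 (by norm_num)
  exact ⟨k, o, Nat.odd_iff.2 (by omega), h⟩

variable {p q : ℕ}

theorem dvd_q_pm (hp : p.Prime) (hp2 : p ≠ 2) {n : ℕ} (hq : q = 2 ^ n) (h : p ∣ q * (q ^ 2 - 1)) :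
    ∃ j, j * p + 1 = q ∨ j * p = q + 1 := by
  have h1 : p ∣ q ^ 2 - 1 := (hp.dvd_mul.1 h).resolve_left fun hd =>
    hp2 ((Nat.prime_dvd_prime_iff_eq hp Nat.prime_two).1 (hp.dvd_of_dvd_pow (hq ▸ hd)))
  have hq1 : 1 ≤ q := hq ▸ Nat.one_le_two_pow
  rw [show q ^ 2 - 1 = (q + 1) * (q - 1) by
    rw [show (1 : ℕ) = 1 ^ 2 from rfl, Nat.sq_sub_sq]; rfl] at h1
  rcases hp.dvd_mul.1 h1 with ⟨j, hj⟩ | ⟨j, hj⟩
  · exact ⟨j, Or.inr (by rw [mul_comm]; exact hj.symm)⟩
  · exact ⟨j, Or.inl (by rw [mul_comm, ← hj]; omega)⟩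

/-- `q = 2 ^ (k+1)` with `2 ^ k` the two-part of `p - 1`. -/
theorem psl_even_rank (hp : p.Prime) {k o : ℕ} (hk : 2 ≤ k) (ho : Odd o) (hpk : p = 2 ^ k * o + 1)
    (hq : q = 2 ^ (k + 1)) (hd : p ∣ q * (q ^ 2 - 1)) : False := by
  obtain ⟨r, rfl⟩ := ho
  have h4 : 4 ≤ 2 ^ k := le_trans (by norm_num) (Nat.pow_le_pow_right two_pos hk)
  have hpb : 2 ^ k + 1 ≤ p := by
    have : 2 ^ k * 1 ≤ 2 ^ k * (2 * r + 1) := Nat.mul_le_mul_left _ (by omega)
    omega
  obtain ⟨j, hj⟩ := dvd_q_pm hp (by omega) hq hd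
  rw [pow_succ] at hq
  have hj2 : j ≤ 2 := by
    by_contra hlt
    have : 3 * p ≤ j * p := Nat.mul_le_mul_right _ (by omega)
    omega
  interval_cases j
  · omega
  · subst hpk
    rcases Nat.eq_zero_or_pos r with rfl | hr
    · omega
    · have : 2 ^ k * 3 ≤ 2 ^ k * (2 * r + 1) := Nat.mul_le_mul_left _ (by omega)
      omega
  · subst hpk
    rcases hj with hj | hj <;> omega

/-- `2 q = 2 ^ (2k)`. -/
theorem psl_even_two_trans (hp : p.Prime) {k o : ℕ} (hk : 2 ≤ k) (ho : Odd o) (hpk : p = 2 ^ k * o + 1)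
    {n : ℕ} (hn : q = 2 ^ n) (hq : 2 * q = 2 ^ k * 2 ^ k) (hd : p ∣ q * (q ^ 2 - 1)) : False := by
  obtain ⟨r, rfl⟩ := ho
  have h4 : 4 ≤ 2 ^ k := le_trans (by norm_num) (Nat.pow_le_pow_right two_pos hk)
  obtain ⟨e, he⟩ : ∃ e, 2 ^ k = 4 * e := ⟨2 ^ (k - 2), by rw [show (4 : ℕ) = 2 ^ 2 from rfl, ← pow_add]; congr 1; omega⟩
  rw [he] at hq hpk h4
  have hpb : 4 * e + 1 ≤ p := by
    have : 4 * e * 1 ≤ 4 * e * (2 * r + 1) := Nat.mul_le_mul_left _ (by omega)
    omega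
  obtain ⟨j, hj⟩ := dvd_q_pm hp (by omega) hn hd
  have hq' : q = 8 * e * e := by linarith
  have hjb : j ≤ 2 * e := by
    by_contra hlt
    have : (2 * e + 1) * p ≤ j * p := Nat.mul_le_mul_right _ (by omega)
    have : (2 * e + 1) * (4 * e + 1) ≤ (2 * e + 1) * p := Nat.mul_le_mul_left _ hpb
    rcases hj with hj | hj <;> nlinarith
  have hdvd : (4 * e : ℤ) ∣ (q : ℤ) := ⟨2 * e, by rw [hq']; push_cast; ring⟩
  have hp' : (p : ℤ) = 4 * e * (2 * r + 1) + 1 := by exact_mod_cast hpk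
  rcases hj with hj | hj
  · have hj' : (j : ℤ) * p + 1 = q := by exact_mod_cast hj
    have : (4 * e : ℤ) ∣ (j : ℤ) + 1 := by
      obtain ⟨w, hw⟩ := hdvd
      exact ⟨w - j * (2 * r + 1), by rw [hp', hw] at hj'; linarith⟩
    have := Int.le_of_dvd (by positivity) this
    omega
  · have hj' : (j : ℤ) * p = q + 1 := by exact_mod_cast hj
    have : (4 * e : ℤ) ∣ (j : ℤ) - 1 := by
      obtain ⟨w, hw⟩ := hdvd
      exact ⟨w - j * (2 * r + 1), by rw [hp', hw] at hj'; linarith⟩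
    have hj0 : j ≠ 0 := fun e0 => by rw [e0, zero_mul] at hj; omega
    have hj1 : j = 1 := by
      by_contra hne
      have := Int.le_of_dvd (by omega) this
      omega
    subst hj1
    subst hpk
    have h5 : 2 * r + 1 = 2 * e := Nat.eq_of_mul_eq_mul_left (show 0 < 4 * e by omega) (by
      rw [one_mul, hq'] at hj; linarith)
    omega

/-- `q ∣ 3 p - 1` and the order formula. -/
theorem psl_even_fix_one (hp : p.Prime) (hp5 : 5 ≤ p) {n c : ℕ} (hn : q = 2 ^ n) (h4 : 4 ≤ q)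
    (hk : ∃ k, 3 * p = q * k + 1) (hd : p ∣ q * (q ^ 2 - 1))
    (heq : (c : ℤ) ^ 2 * p * (3 * p - 2) = q * ((q : ℤ) ^ 2 - 1) * (3 * p - 1)) : False := by
  obtain ⟨k, hk⟩ := hk
  obtain ⟨j, hj⟩ := dvd_q_pm hp (by omega) hn hd
  have hj0 : j ≠ 0 := fun e0 => by rw [e0, zero_mul] at hj; omega
  have hpq : p ≤ q + 1 := by
    have : 1 * p ≤ j * p := Nat.mul_le_mul_right _ (by omega)
    omega
  have hq2 : q % 2 = 0 := by
    rw [hn]
    rcases Nat.eq_zero_or_pos n with rfl | h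
    · simp at hn; omega
    · exact Nat.pow_mod .. ▸ by simp [zero_pow h.ne']
  have hk3 : k ≤ 3 := by
    by_contra hlt
    have : q * 4 ≤ q * k := Nat.mul_le_mul_left _ (by omega)
    omega
  interval_cases k
  · omega
  · have hq' : (q : ℤ) = 3 * p - 1 := by omega
    rw [hq'] at heq
    have hne : (3 * (p : ℤ) - 2) * p ≠ 0 := mul_ne_zero (by omega) (by omega)
    have h2 : (c : ℤ) ^ 2 = 3 * ((3 * p - 1) ^ 2) := by
      refine mul_right_cancel₀ hne ?_
      linear_combination heq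
    have h3 : c ^ 2 = 3 * (3 * p - 1) ^ 2 := by
      zify [show 1 ≤ 3 * p by omega]
      exact h2
    have hc0 : c ≠ 0 := fun e => by rw [e] at h3; simp at h3; omega
    have h5 := congrArg (fun x => x.factorization 3) h3
    simp only [Nat.factorization_pow, Nat.factorization_mul (by norm_num : (3 : ℕ) ≠ 0)
      (pow_ne_zero 2 (by omega : 3 * p - 1 ≠ 0)), Finsupp.coe_smul, Finsupp.coe_add, Pi.smul_apply,
      Pi.add_apply, Nat.prime_three.factorization_self, smul_eq_mul] at h5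
    omega
  · rcases hj with hj | hj
    · have : j ≤ 1 := by
        by_contra hlt
        have : 2 * p ≤ j * p := Nat.mul_le_mul_right _ (by omega)
        omega
      interval_cases j <;> omega
    · have : j ≤ 1 := by
        by_contra hlt
        have : 2 * p ≤ j * p := Nat.mul_le_mul_right _ (by omega)
        omega
      interval_cases j <;> omega
  · omega

theorem psu_bound (hp : p.Prime) (hq : 4 ≤ q) (h : p ∣ q * (q ^ 2 - 1) * (q ^ 3 + 1)) (hp2 : ¬ p ∣ q) :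
    p ∣ q + 1 ∨ p + 1 ≤ q ∨ p ∣ q * q - q + 1 := by
  have hfac : q ^ 3 + 1 = (q + 1) * (q * q - q + 1) := by
    zify [show q ≤ q * q by nlinarith]
    ring
  rw [hfac, show q ^ 2 - 1 = (q + 1) * (q - 1) by
    rw [show (1 : ℕ) = 1 ^ 2 from rfl, Nat.sq_sub_sq]; rfl] at h
  rcases hp.dvd_mul.1 h with h | h
  · rcases hp.dvd_mul.1 h with h | h
    · exact absurd h hp2
    · rcases hp.dvd_mul.1 h with h | h
      · exact Or.inl h
      · exact Or.inr (Or.inl (by have := Nat.le_of_dvd (by omega) h; omega))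
  · rcases hp.dvd_mul.1 h with h | h
    · exact Or.inl h
    · exact Or.inr (Or.inr h)

theorem psu_le (hp : p.Prime) (hq : 4 ≤ q) (h : p ∣ q * (q ^ 2 - 1) * (q ^ 3 + 1)) (hp2 : ¬ p ∣ q) :
    p + q ≤ q * q + 1 := by
  have hqq : 4 * q ≤ q * q := Nat.mul_le_mul_right _ hq
  rcases psu_bound hp hq h hp2 with h | h | h
  · have := Nat.le_of_dvd (by omega) h; omega
  · omega
  · have := Nat.le_of_dvd (by omega) h; omega

/-- `q ^ 3` is at most `2 (p - 1)` or `3 p - 1`. -/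
theorem psu_small (hp : p.Prime) (hq : 4 ≤ q) (h : p ∣ q * (q ^ 2 - 1) * (q ^ 3 + 1)) (hp2 : ¬ p ∣ q)
    (hle : q ^ 3 + 2 ≤ 2 * p ∨ q ^ 3 + 1 ≤ 3 * p) : False := by
  have h1 := psu_le hp hq h hp2
  have h2 : q * q * 4 ≤ q ^ 3 := by rw [pow_three, mul_assoc]; exact Nat.mul_le_mul_left _ (Nat.mul_le_mul_left _ hq)
  rcases hle with hle | hle <;> omega

/-- `2 q ^ 3 = 2 ^ (2k)` and `2 ^ k ∣ p - 1`. -/
theorem psu_two_trans (hp : p.Prime) {k o n : ℕ} (hpk : p = 2 ^ k * o + 1) (ho : 0 < o) (hn : 2 ≤ n)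
    (hq : q = 2 ^ n) (hk : 2 * k = 3 * n + 1) (h : p ∣ q * (q ^ 2 - 1) * (q ^ 3 + 1)) : False := by
  have hq4 : 4 ≤ q := hq ▸ le_trans (by norm_num) (Nat.pow_le_pow_right two_pos hn)
  have hbig : q * 2 ≤ 2 ^ k := by
    rw [hq, ← pow_succ]; exact Nat.pow_le_pow_right two_pos (by omega)
  have hpb : 2 ^ k + 1 ≤ p := by
    have : 2 ^ k * 1 ≤ 2 ^ k * o := Nat.mul_le_mul_left _ ho
    omega
  have hp2 : ¬ p ∣ q := fun hd => by have := Nat.le_of_dvd (by omega) hd; omega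
  rcases psu_bound hp hq4 h hp2 with h | h | ⟨j, hj⟩
  · have := Nat.le_of_dvd (by omega) h; omega
  · omega
  · have hdvd : 2 ^ k ∣ q * q := by rw [hq, ← pow_add]; exact pow_dvd_pow 2 (by omega)
    obtain ⟨w, hw⟩ := hdvd
    have hsq : 2 ^ k * 2 ^ k = 2 * q ^ 3 := by rw [← pow_add, hq, ← pow_mul, ← pow_succ']; congr 1; omega
    have hqq : q ≤ q * q := Nat.le_mul_self q
    have hj' : (p : ℤ) * j = (q : ℤ) * q - q + 1 := by
      have : q * q - q + 1 = p * j := hj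
      zify [hqq] at this
      linarith
    have hp' : (p : ℤ) = 2 ^ k * o + 1 := by exact_mod_cast hpk
    have hd2 : (2 ^ k : ℤ) ∣ (j : ℤ) + q - 1 := by
      refine ⟨w - o * j, ?_⟩
      have hw' : (q : ℤ) * q = 2 ^ k * w := by exact_mod_cast hw
      rw [hp', hw'] at hj'
      linarith
    have hj1 : 1 ≤ (j : ℤ) := by
      rcases Nat.eq_zero_or_pos j with rfl | hj0
      · simp at hj'; nlinarith
      · exact_mod_cast hj0
    have hlow := Int.le_of_dvd (by omega) hd2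
    have hbig' : (q : ℤ) * 2 ≤ 2 ^ k := by exact_mod_cast hbig
    have hsq' : (2 ^ k : ℤ) * 2 ^ k = 2 * q ^ 3 := by exact_mod_cast hsq
    have hpb' : (2 ^ k : ℤ) + 1 ≤ p := by exact_mod_cast hpb
    have hq4' : (4 : ℤ) ≤ q := by exact_mod_cast hq4
    have h3 : ((2 : ℤ) ^ k + 1) * (2 ^ k - q + 1) ≤ p * j :=
      mul_le_mul hpb' (by linarith) (by linarith) (by omega)
    have hk2 : (2 : ℤ) ^ k ≤ q * q := by
      have : 2 ^ k ≤ q * q := by rw [hq, ← pow_add]; exact Nat.pow_le_pow_right two_pos (by omega)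
      exact_mod_cast this
    nlinarith

/-- Rank three, centralizer `q - 1`. -/
theorem gw_rank_minus {p q : ℤ} (hq : 5 ≤ q) (h : q * (q + 1) * (p - 1) = p * (q - 1) * (2 * p - 1))
    (hp : 5 ≤ p) : q = 2 * p - 1 := by
  have h0 : (2 * p - (q + 1)) * ((q - 1) * p - q) = 0 := by linear_combination -h
  rcases mul_eq_zero.1 h0 with h1 | h1
  · omega
  · exfalso; nlinarith

/-- Rank three, centralizer `q + 1`. -/
theorem gw_rank_plus {p q : ℤ} (hq : 5 ≤ q) (h : q * (q - 1) * (p - 1) = p * (q + 1) * (2 * p - 1))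
    (hp : 5 ≤ p) : False := by
  have hd : q + 1 ∣ 2 * (p - 1) := ⟨p * (2 * p - 1) - (q - 2) * (p - 1), by linear_combination h⟩
  have h2 := Int.le_of_dvd (by omega) hd
  have h3 : q * (q - 1) * (p - 1) < p * (q + 1) * (2 * p - 1) := by
    have e1 : q * (q - 1) * (p - 1) ≤ q * (q - 1) * p := mul_le_mul_of_nonneg_left (by omega) (by nlinarith)
    have e2 : q * (q - 1) < (q + 1) * (2 * p - 1) := by nlinarith
    have e3 : q * (q - 1) * p < (q + 1) * (2 * p - 1) * p := mul_lt_mul_of_pos_right e2 (by omega)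
    linarith
  omega

/-- The bounds in the two-transitive case. -/
theorem gw_trans_bounds {p A B : ℤ} (hp : 5 ≤ p) (hA : 0 < A) (hB : 0 < B)
    (h : 9 * A * (p - 1) ^ 2 = 2 * p * B * ((3 * p - 1) * (3 * p - 2))) :
    2 * p * B < A ∧ 3 * A < 8 * (p * B) := by
  have hpB : 0 < 2 * p * B := by positivity
  have h1 : 9 * (p - 1) ^ 2 < (3 * p - 1) * (3 * p - 2) := by nlinarith
  have h2 : 3 * ((3 * p - 1) * (3 * p - 2)) < 4 * (9 * (p - 1) ^ 2) := by nlinarith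
  have hs : (0 : ℤ) < (p - 1) ^ 2 := by nlinarith
  constructor
  · by_contra hle
    push Not at hle
    nlinarith
  · by_contra hle
    push Not at hle
    nlinarith

theorem prime_power_eq {p q r a : ℕ} (hr : r.Prime) (hp : p.Prime) (hqa : q = r ^ a) (hd : p ∣ q)
    (hlo : 3 * q ≤ 10 * p) (hp5 : 5 ≤ p) : q = p := by
  have e : p = r := (Nat.prime_dvd_prime_iff_eq hp hr).1 (hp.dvd_of_dvd_pow (hqa ▸ hd))
  subst e
  rcases Nat.lt_or_ge a 2 with ha | ha
  · interval_cases a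
    · simp at hqa; subst hqa; exact absurd (Nat.le_of_dvd one_pos hd) (by omega)
    · simpa using hqa
  · have : p ^ 2 ≤ q := hqa ▸ Nat.pow_le_pow_right (by omega) ha
    nlinarith

/-- Two-transitive, centralizer `q - 1`. -/
theorem gw_trans_minus {p q r a : ℕ} (hr : r.Prime) (hqa : q = r ^ a) (hp : p.Prime) (hp5 : 5 ≤ p)
    (hq5 : 5 ≤ q) (hq : Odd q)
    (h : 9 * ((q : ℤ) * (q + 1)) * ((p : ℤ) - 1) ^ 2 = 2 * p * ((q : ℤ) - 1) * ((3 * p - 1) * (3 * p - 2))) :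
    False := by
  obtain ⟨h1, h2⟩ := gw_trans_bounds (by omega) (by positivity) (by omega) h
  have hup : 2 * (p : ℤ) ≤ q + 3 := by nlinarith
  have hlo : 3 * (q : ℤ) < 8 * p := by nlinarith
  have hd : (p : ℤ) ∣ 9 * ((q : ℤ) * (q + 1)) * ((p : ℤ) - 1) ^ 2 :=
    ⟨2 * ((q : ℤ) - 1) * ((3 * p - 1) * (3 * p - 2)), by rw [h]; ring⟩
  have hpI : Prime (p : ℤ) := Nat.prime_iff_prime_int.1 hp
  rcases hpI.dvd_or_dvd hd with hd | hd
  swap
  · have h3 : (p : ℤ) ∣ 1 := by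
      have h4 := dvd_sub (dvd_refl (p : ℤ)) (hpI.dvd_of_dvd_pow hd)
      rwa [sub_sub_cancel] at h4
    have := Int.le_of_dvd one_pos h3; omega
  rcases hpI.dvd_or_dvd hd with hd | hd
  · have h3 : p ∣ 9 := by exact_mod_cast hd
    have := Nat.le_of_dvd (by norm_num) h3
    interval_cases p <;> norm_num at *
  rcases hpI.dvd_or_dvd hd with hd | hd
  · have := prime_power_eq hr hp hqa (by exact_mod_cast hd) (by omega) hp5
    omega
  · obtain ⟨j, hj⟩ : p ∣ q + 1 := by exact_mod_cast hd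
    have hj3 : j ≤ 2 := by
      by_contra hlt
      have : p * 3 ≤ p * j := Nat.mul_le_mul_left _ (by omega)
      omega
    obtain ⟨s, hs⟩ := hq
    obtain ⟨s', hs'⟩ := hp.odd_of_ne_two (by omega)
    interval_cases j
    · omega
    · omega
    · have e : (q : ℤ) = 2 * p - 1 := by omega
      rw [e] at h
      have h5 : (2 * (p : ℤ) - 1) * (9 * (p - 1) ^ 2) = (2 * p - 2) * ((3 * p - 1) * (3 * p - 2)) := by
        refine mul_left_cancel₀ (show (2 * (p : ℤ)) ≠ 0 by omega) ?_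
        linear_combination h
      nlinarith

/-- Two-transitive, centralizer `q + 1`. -/
theorem gw_trans_plus {p q r a : ℕ} (hr : r.Prime) (hqa : q = r ^ a) (hp : p.Prime) (hp5 : 5 ≤ p)
    (hq5 : 5 ≤ q) (hq : Odd q)
    (h : 9 * ((q : ℤ) * (q - 1)) * ((p : ℤ) - 1) ^ 2 = 2 * p * ((q : ℤ) + 1) * ((3 * p - 1) * (3 * p - 2))) :
    False := by
  obtain ⟨h1, h2⟩ := gw_trans_bounds (by omega) (mul_pos (by omega) (by omega)) (by omega) h
  have hup : 2 * (p : ℤ) ≤ q - 2 := by nlinarith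
  have hlo : 3 * (q : ℤ) < 8 * p + 8 := by nlinarith
  have hd : (p : ℤ) ∣ 9 * ((q : ℤ) * (q - 1)) * ((p : ℤ) - 1) ^ 2 :=
    ⟨2 * ((q : ℤ) + 1) * ((3 * p - 1) * (3 * p - 2)), by rw [h]; ring⟩
  have hpI : Prime (p : ℤ) := Nat.prime_iff_prime_int.1 hp
  rcases hpI.dvd_or_dvd hd with hd | hd
  swap
  · have h3 : (p : ℤ) ∣ 1 := by
      have h4 := dvd_sub (dvd_refl (p : ℤ)) (hpI.dvd_of_dvd_pow hd)
      rwa [sub_sub_cancel] at h4
    have := Int.le_of_dvd one_pos h3; omega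
  rcases hpI.dvd_or_dvd hd with hd | hd
  · have h3 : p ∣ 9 := by exact_mod_cast hd
    have := Nat.le_of_dvd (by norm_num) h3
    interval_cases p <;> norm_num at *
  rcases hpI.dvd_or_dvd hd with hd | hd
  · have := prime_power_eq hr hp hqa (by exact_mod_cast hd) (by omega) hp5
    omega
  · obtain ⟨j, hj⟩ : p ∣ q - 1 := by
      have := hd
      rw [show (q : ℤ) - 1 = ((q - 1 : ℕ) : ℤ) by omega] at this
      exact_mod_cast this
    have hj3 : j ≤ 3 := by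
      by_contra hlt
      have : p * 4 ≤ p * j := Nat.mul_le_mul_left _ (by omega)
      omega
    obtain ⟨s, hs⟩ := hq
    obtain ⟨s', hs'⟩ := hp.odd_of_ne_two (by omega)
    interval_cases j <;> omega

theorem gw_four_minus {q : ℤ} (h : 2 * q * (q + 1) = 15 * (q - 1)) : q = 5 := by
  have h0 : (2 * q - 3) * (q - 5) = 0 := by linear_combination h
  rcases mul_eq_zero.1 h0 with h1 | h1 <;> omega

theorem gw_four_plus {q : ℤ} (hq : 3 < q) (h : 2 * q * (q - 1) = 15 * (q + 1)) : False := by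
  rcases le_or_gt q 9 with h9 | h9
  · interval_cases q <;> norm_num at h
  · nlinarith

end CfsgLib.DegreeThreeP
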