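import Cfsg.Agent.Lib.DegreeThreeP.CharTools
import Cfsg.Agent.Lib.SmallSylow.Apply
import Cfsg.Agent.Lib.SmallSylow.Degrees
import Cfsg.Agent.Lib.Blocks.DefectZeroCount
import Cfsg.Agent.Lib.CharTheory.SmallPartitionChars
import Cfsg.Agent.Lib.CharTheory.Linear

/-!
# Groups of degree `3p` whose Sylow normalizer has order `2p`: first properties
-/

set_option autoImplicit false
set_option linter.style.haveILetI false
set_option linter.unusedSectionVars false

namespace CfsgLib.DegreeThreeP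

open Cfsg CfsgLib.Blocks CfsgLib.CharTheory MulAction
open CfsgLib.SmallPartitionChars (fixChar)
open scoped ComplexConjugate commutatorElement

universe u v

variable {G : Type u} [Group G] {Ω : Type v} [MulAction G Ω] {p : ℕ} [Fact p.Prime] {P : Sylow p G}

/-- The hypotheses. -/
structure Hyp (G : Type u) [Group G] (Ω : Type v) [MulAction G Ω] {p : ℕ} [Fact p.Prime]
    (P : Sylow p G) : Prop where
  simple : IsSimpleGroup G
  hp5 : 5 ≤ p
  hΩ : Nat.card Ω = 3 * p
  faithful : FaithfulSMul G Ω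
  trans : IsPretransitive G Ω
  hP : Nat.card P = p
  hC : Subgroup.centralizer ((P : Subgroup G) : Set G) = (P : Subgroup G)
  hq : SmallSylow.inIdx P = 2
  perfect : commutator G = ⊤
  noncomm : ¬ ∀ a b : G, a * b = b * a

variable [Fintype G] [Finite Ω]

theorem mkHyp [IsSimpleGroup G] (hG : ¬ IsMulCommutative G) (hp3 : 3 < p) [FaithfulSMul G Ω]
    [IsPretransitive G Ω] (hΩ : Nat.card Ω = 3 * p)
    (hN : Nat.card (Subgroup.normalizer ((P : Subgroup G) : Set G)) = 2 * p) : Hyp G Ω P := by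
  classical
  have hp : p.Prime := Fact.out
  have hnc : ¬ ∀ a b : G, a * b = b * a := fun h => hG ⟨⟨h⟩⟩
  have hperf : commutator G = ⊤ := by
    refine ((inferInstance : (commutator G).Normal).eq_bot_or_eq_top).resolve_left fun e => hnc fun a b => ?_
    have h := Subgroup.commutator_mem_commutator (Subgroup.mem_top a) (Subgroup.mem_top b)
    rw [← commutator_def, e, Subgroup.mem_bot] at h
    exact commutatorElement_eq_one_iff_mul_comm.1 h
  obtain ⟨a₀⟩ : Nonempty Ω := (Nat.card_pos_iff.1 (by omega)).1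
  have hdvd : p ∣ Nat.card G := by
    refine dvd_trans ?_ (Subgroup.index_dvd_card (stabilizer G a₀))
    rw [index_stabilizer_of_transitive, hΩ]
    exact dvd_mul_left p 3
  have hP : Nat.card P = p := by
    obtain ⟨k, hk⟩ := IsPGroup.iff_card.1 P.isPGroup'
    have h1 : p ^ k ∣ 2 * p := hk ▸ hN ▸ Subgroup.card_dvd_of_le Subgroup.le_normalizer
    have hk1 : k ≠ 0 := fun h0 => P.not_dvd_index (by
      have h := (P : Subgroup G).card_mul_index
      rw [hk, h0, pow_zero, one_mul] at h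
      rwa [h])
    have hk2 : k ≤ 1 := by
      by_contra hlt
      have h2 : p ^ 2 ∣ 2 * p := dvd_trans (pow_dvd_pow p (by omega)) h1
      rw [sq] at h2
      have := Nat.le_of_dvd two_pos (Nat.dvd_of_mul_dvd_mul_right hp.pos h2)
      omega
    rw [hk, show k = 1 by omega, pow_one]
  have hP5 : 5 ≤ p := by
    rcases Nat.lt_or_ge p 5 with h | h
    · interval_cases p; norm_num at hp
    · exact h
  set C := Subgroup.centralizer ((P : Subgroup G) : Set G)
  set N := Subgroup.normalizer ((P : Subgroup G) : Set G)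
  have hCN : C ≤ N := Subgroup.centralizer_le_normalizer _
  have hq : Nat.card C * SmallSylow.inIdx P = 2 * p := by
    have h1 := Subgroup.card_mul_index (C.subgroupOf N)
    rw [Nat.card_congr (Subgroup.subgroupOfEquivOfLe hCN).toEquiv, hN] at h1
    exact h1
  have h2 := SmallSylow.two_le_inIdx hperf P hP
  have hle := (DefectOne.setup_sylow P hP).le_cent
  obtain ⟨c, hc⟩ : p ∣ Nat.card C := hP ▸ Subgroup.card_dvd_of_le hle
  rw [hc, mul_assoc, mul_comm 2 p] at hq
  have hc1 := Nat.eq_of_mul_eq_mul_left hp.pos hq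
  have hc2 : c = 1 := by
    rcases Nat.lt_or_ge c 2 with h | h
    · rcases Nat.eq_zero_or_pos c with rfl | h0
      · omega
      · omega
    · have := Nat.mul_le_mul h h2
      omega
  subst hc2
  refine ⟨inferInstance, hP5, hΩ, inferInstance, inferInstance, hP, ?_, by omega, hperf, hnc⟩
  exact (Subgroup.eq_of_le_of_card_ge hle (by rw [hP]; exact (hc.trans (mul_one p)).le)).symm

namespace Hyp

variable (h : Hyp G Ω P)
include h

theorem odd : Odd p := (Fact.out : p.Prime).odd_of_ne_two (by have := h.hp5; omega)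

theorem pow_p {x : G} (hx : x ∈ (P : Subgroup G)) : x ^ p = 1 := by
  have := pow_card_eq_one' (G := (P : Subgroup G)) (x := ⟨x, hx⟩)
  rw [show Nat.card (P : Subgroup G) = p from h.hP] at this
  exact congrArg Subtype.val this

theorem card_normalizer : Nat.card (Subgroup.normalizer ((P : Subgroup G) : Set G)) = p * 2 := by
  have hCN := Subgroup.centralizer_le_normalizer ((P : Subgroup G) : Set G)
  have h1 := Subgroup.card_mul_index ((Subgroup.centralizer ((P : Subgroup G) : Set G)).subgroupOf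
    (Subgroup.normalizer ((P : Subgroup G) : Set G)))
  rw [Nat.card_congr (Subgroup.subgroupOfEquivOfLe hCN).toEquiv, h.hC, h.hP] at h1
  rw [← h1]
  congr 1
  have h2 := h.hq
  unfold SmallSylow.inIdx Subgroup.relIndex at h2
  rw [h.hC] at h2
  exact h2

theorem exists_invol : ∃ t : G, orderOf t = 2 ∧ ∀ x ∈ (P : Subgroup G), t * x * t⁻¹ = x⁻¹ := by
  have hp5 := h.hp5
  haveI : Fact (Nat.Prime 2) := ⟨Nat.prime_two⟩
  obtain ⟨⟨z, hz⟩, hzo⟩ := exists_prime_orderOf_dvd_card'
    (G := Subgroup.normalizer ((P : Subgroup G) : Set G)) 2 (h.card_normalizer ▸ dvd_mul_left 2 p)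
  rw [← Subgroup.orderOf_coe] at hzo
  have hs := DefectOne.setup_sylow P h.hP
  have hzC : z ∉ Subgroup.centralizer ((P : Subgroup G) : Set G) := fun hzC => by
    rw [h.hC] at hzC
    have h1 := Subgroup.orderOf_dvd_natCard _ hzC
    rw [hzo, show Nat.card (P : Subgroup G) = p from h.hP] at h1
    exact Nat.not_even_iff_odd.2 h.odd (even_iff_two_dvd.2 h1)
  refine ⟨z, hzo, fun x hx => ?_⟩
  have hz2 : z * z = 1 := by rw [← sq]; exact hzo ▸ pow_orderOf_eq_one z
  have hzi : z⁻¹ = z := inv_eq_of_mul_eq_one_right hz2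
  have hzx : z * x * z⁻¹ ∈ (P : Subgroup G) := (Subgroup.mem_normalizer_iff.1 hz x).1 hx
  by_contra hne
  set m := x * (z * x * z⁻¹) with hm
  have hm1 : m ≠ 1 := fun e => hne (eq_inv_of_mul_eq_one_right e)
  have hfix : z * m * z⁻¹ = m := by
    have h2 : z * (z * x * z⁻¹) * z⁻¹ = x := by
      rw [hzi, show z * (z * x * z) * z = (z * z) * x * (z * z) by group, hz2, one_mul, mul_one]
    rw [hm, show z * (x * (z * x * z⁻¹)) * z⁻¹ = (z * x * z⁻¹) * (z * (z * x * z⁻¹) * z⁻¹) by group, h2]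
    exact hs.comm hzx hx
  exact hzC (hs.free (mul_mem hx hzx) hm1 hfix)

variable {t : G} (ht : orderOf t = 2) (hinv : ∀ x ∈ (P : Subgroup G), t * x * t⁻¹ = x⁻¹)
include ht hinv

theorem isConj_refl {x : G} (hx : x ∈ (P : Subgroup G)) : IsConj t (t * x) :=
  conj_reflection h.odd (fun _ hx => h.pow_p hx) hinv hx

theorem reflection {a x : G} (hx : x ∈ (P : Subgroup G)) (hx1 : x ≠ 1) (ha : a * a = 1)
    (hax : a * x * a = x⁻¹) : t⁻¹ * a ∈ (P : Subgroup G) := by
  have hs := DefectOne.setup_sylow P h.hP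
  have hai : a⁻¹ = a := inv_eq_of_mul_eq_one_right ha
  have hN : t ∈ Subgroup.normalizer ((P : Subgroup G) : Set G) :=
    hs.norm_eq hx hx1 (by rw [hinv x hx]; exact inv_mem hx)
  have haN : a ∈ Subgroup.normalizer ((P : Subgroup G) : Set G) :=
    hs.norm_eq hx hx1 (by rw [hai, hax]; exact inv_mem hx)
  have hx2 : x ≠ x⁻¹ := fun e => by
    have h2 : orderOf x ∣ 2 := orderOf_dvd_of_pow_eq_one (by rw [sq]; nth_rewrite 2 [e]; exact mul_inv_cancel x)
    rw [SmallSylow.orderOf_mem P h.hP hx hx1] at h2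
    have := Nat.le_of_dvd two_pos h2
    have := h.hp5
    omega
  have hnc : ∀ w : G, w * x * w⁻¹ = x⁻¹ → w ∉ Subgroup.centralizer ((P : Subgroup G) : Set G) := fun w hw hwC =>
    hx2 (by rw [← hw, (Subgroup.mem_centralizer_iff.1 hwC x hx).symm]; group)
  rw [← h.hC]
  have h1 : (⟨t, hN⟩ : Subgroup.normalizer ((P : Subgroup G) : Set G))⁻¹ * ⟨a, haN⟩ ∈
      (Subgroup.centralizer ((P : Subgroup G) : Set G)).subgroupOf
        (Subgroup.normalizer ((P : Subgroup G) : Set G)) := by
    rw [Subgroup.mul_mem_iff_of_index_two (show _ = 2 from h.hq), inv_mem_iff, Subgroup.mem_subgroupOf,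
      Subgroup.mem_subgroupOf]
    exact iff_of_false (hnc t (hinv x hx)) (hnc a (by rw [hai, hax]))
  exact h1

omit hinv in
theorem mul_self_of_isConj {a : G} (ha : IsConj t a) : a * a = 1 := by
  obtain ⟨c, rfl⟩ := isConj_iff.1 ha
  rw [show c * t * c⁻¹ * (c * t * c⁻¹) = c * (t * t) * c⁻¹ by group, ← sq, ← ht, pow_orderOf_eq_one]
  group

theorem pair_self {x : G} (hx : x ∈ (P : Subgroup G)) (hx1 : x ≠ 1) : pairCount t t x = p := by
  rw [pairCount, ← h.hP]
  have key : ∀ a : G, IsConj t a → IsConj t (a⁻¹ * x) → t⁻¹ * a ∈ (P : Subgroup G) := fun a ha hb => by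
    have h1 := h.mul_self_of_isConj ht ha
    have h2 := h.mul_self_of_isConj ht hb
    rw [inv_eq_of_mul_eq_one_right h1] at h2
    exact h.reflection ht hinv hx hx1 h1 (eq_inv_of_mul_eq_one_left (by rw [← h2]; group))
  refine Nat.card_congr
    { toFun := fun a => ⟨t⁻¹ * a.1, key a.1 a.2.1 a.2.2⟩
      invFun := fun y => ⟨t * y.1, h.isConj_refl ht hinv y.2, ?_⟩
      left_inv := fun a => Subtype.ext (mul_inv_cancel_left _ _)
      right_inv := fun y => Subtype.ext (inv_mul_cancel_left _ _) }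
  have h2 : (t * (y : G))⁻¹ * x = t * ((y : G) * x) := by
    have h3 : (t * (y : G))⁻¹ = t * (y : G) := by
      rw [inv_eq_of_mul_eq_one_right (h.mul_self_of_isConj ht (h.isConj_refl ht hinv y.2))]
    rw [h3, mul_assoc]
  rw [h2]
  exact h.isConj_refl ht hinv (mul_mem y.2 hx)

theorem pair_other {x u : G} (hx : x ∈ (P : Subgroup G)) (hx1 : x ≠ 1) (hu : orderOf u = 2)
    (hcu : ¬ IsConj t u) : pairCount t u x = 0 := by
  rw [pairCount, Nat.card_eq_zero]
  refine Or.inl ⟨fun ⟨a, ha, hb⟩ => hcu ?_⟩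
  have h1 := h.mul_self_of_isConj ht ha
  have h2 := h.mul_self_of_isConj hu hb
  rw [inv_eq_of_mul_eq_one_right h1] at h2 hb
  have h3 : a * x * a = x⁻¹ := eq_inv_of_mul_eq_one_left (by rw [← h2]; group)
  have h4 := h.reflection ht hinv hx hx1 h1 h3
  have h5 := h.isConj_refl ht hinv (mul_mem h4 hx)
  rw [← mul_assoc, mul_inv_cancel_left] at h5
  exact h5.trans hb.symm

end Hyp

namespace Hyp

variable (h : Hyp G Ω P)
include h

theorem irr_faithful {χ : IrrCharacter G} (h1 : χ ≠ oneIrr G) {g : G}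
    (hg : (χ : G → ℂ) g = (χ : G → ℂ) 1) : g = 1 := by
  haveI := h.simple
  obtain ⟨n, R, hR, hRχ⟩ := χ.2
  rcases (inferInstance : R.ker.Normal).eq_bot_or_eq_top with e | e
  · have := CharTheory.rep_apply_eq_one_of_char_eq R (g := g) (by rw [hRχ]; exact hg)
    exact Subgroup.mem_bot.1 (e ▸ (MonoidHom.mem_ker.2 this : g ∈ R.ker))
  · exfalso
    have hall : ∀ x : G, R x = 1 := fun x => MonoidHom.mem_ker.1 (e ▸ Subgroup.mem_top x)
    have h2 : ∀ x, (χ : G → ℂ) x = (χ : G → ℂ) 1 := fun x => by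
      rw [← hRχ, Representation.character, Representation.character, hall, hall]
    have h3 := classInner_irr_ne χ.2 (oneIrr G).2 fun e0 => h1 (Subtype.ext e0)
    simp only [classInner, oneIrr, h2, map_one, mul_one, Finset.sum_const, Finset.card_univ,
      ← Nat.card_eq_fintype_card, nsmul_eq_mul, mul_eq_zero, inv_eq_zero, Nat.cast_eq_zero] at h3
    have := Nat.card_pos (α := G)
    rcases h3 with h3 | h3 | h3
    · omega
    · omega
    · exact irr_one_ne_zero χ h3

theorem fix_one : fixChar G Ω 1 = ((3 * p : ℕ) : ℂ) := by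
  show (Nat.card (fixedBy Ω (1 : G)) : ℂ) = _
  rw [show fixedBy Ω (1 : G) = Set.univ from Set.eq_univ_of_forall fun x => one_smul G x, Nat.card_coe_set_eq,
    Set.ncard_univ, h.hΩ]

theorem fix_p {x : G} (hx : x ∈ (P : Subgroup G)) (hx1 : x ≠ 1) : fixChar G Ω x = 0 := by
  show (Nat.card (fixedBy Ω x) : ℂ) = 0
  rw [Nat.cast_eq_zero, Nat.card_eq_zero]
  refine Or.inl ⟨fun ⟨w, hw⟩ => ?_⟩
  haveI := h.trans
  have h1 := Subgroup.orderOf_dvd_natCard (stabilizer G w) hw
  rw [SmallSylow.orderOf_mem P h.hP hx hx1] at h1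
  refine DefectOne.sq_not_dvd (DefectOne.setup_sylow P h.hP) h.hP ?_
  rw [← Subgroup.card_mul_index (stabilizer G w), sq, index_stabilizer_of_transitive, h.hΩ]
  exact Nat.mul_dvd_mul h1 (dvd_mul_left p 3)

theorem fix_inner : classInner (fixChar G Ω) (fun _ => 1) = 1 := by
  haveI := h.trans
  obtain ⟨a₀⟩ : Nonempty Ω := (Nat.card_pos_iff.1 (by have := h.hΩ; have := h.hp5; omega)).1
  have h1 := SmallPartitionChars.classInner_fixChar (G := G) Ω Unit
  rw [SmallPartitionChars.fixChar_unit] at h1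
  rw [h1]
  have h2 : Nat.card (orbitRel.Quotient G (Ω × Unit)) = 1 := by
    refine Nat.card_eq_one_iff_unique.2 ⟨⟨fun q q' => ?_⟩, ⟨Quotient.mk'' (a₀, ())⟩⟩
    induction q using Quotient.inductionOn' with
    | _ x =>
      induction q' using Quotient.inductionOn' with
      | _ y =>
        obtain ⟨g, hg⟩ := exists_smul_eq G y.1 x.1
        exact Quotient.sound' (orbitRel_apply.2 ⟨g, Prod.ext hg rfl⟩)
  rw [h2, Nat.cast_one]

/-- Every element is an even permutation. -/
theorem sign_eq_one [Fintype Ω] [DecidableEq Ω] (g : G) : Equiv.Perm.sign (MulAction.toPermHom G Ω g) = 1 := by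
  haveI := h.simple
  set μ : G →* ℤˣ := Equiv.Perm.sign.comp (MulAction.toPermHom G Ω)
  rcases (inferInstance : μ.ker.Normal).eq_bot_or_eq_top with e | e
  · exact absurd (fun a b => (MonoidHom.ker_eq_bot_iff μ).1 e (by rw [map_mul, map_mul, mul_comm])) h.noncomm
  · exact MonoidHom.mem_ker.1 (e.symm ▸ Subgroup.mem_top g : g ∈ μ.ker)

end Hyp

end CfsgLib.DegreeThreeP
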