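import Cfsg.Agent.Lib.DegreeThreeP.Local
import Cfsg.Agent.Lib.DegreeThreeP.Arith
import Cfsg.Agent.Lib.CharTheory.Induced
import Cfsg.Agent.Lib.RealAbove.Main
import Cfsg.Prelude.Def_CaseTheorems

/-!
# Groups of degree `3p`: Sylow two-subgroups are not semidihedral
-/

set_option autoImplicit false
set_option linter.style.haveILetI false
set_option linter.unusedSectionVars false

namespace CfsgLib.DegreeThreeP

open Cfsg CfsgLib.CharTheory CfsgLib.Blocks MulAction
open CfsgLib.SmallPartitionChars (fixChar)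
open scoped ComplexConjugate Pointwise

universe u v

variable {G : Type u} [Group G] [Fintype G] {Ω : Type v} [MulAction G Ω] [Finite Ω]
  {p : ℕ} [Fact p.Prime] {P : Sylow p G} {t : G} {b η : IrrCharacter G} {f r : ℕ} {φ : ℤ}

/-- The two-part in the rank three case. -/
theorem parts_two (D : Deg G Ω P t b η f r φ) (hf : f + 1 = 2 * p) (S : Sylow 2 G) :
    ∃ k o, Odd o ∧ p = 2 ^ k * o + 1 ∧ Nat.card (S : Subgroup G) = 2 ^ (k + 1) := by
  have hp : p.Prime := Fact.out
  have := hp.two_le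
  obtain ⟨s, g, d, hg, hd, hS, hG, hc⟩ := sylow_parts D S
  obtain ⟨k, o, ho, hk⟩ := exists_two_part (show p - 1 ≠ 0 by omega)
  refine ⟨k, o, ho, by omega, ?_⟩
  have h1 := D.order
  rw [D.phi_two hf, hG, hc] at h1
  have hf' : (f : ℤ) - 1 = 2 * ((2 : ℤ) ^ k * o) := by
    have : f = 2 * (2 ^ k * o) + 1 := by omega
    rw [this]; push_cast; ring
  rw [hf'] at h1
  push_cast at h1
  have h2 : 2 ^ (s + (k + 1)) * (g * o) = 2 ^ (s + s) * (p * d ^ 2 * f) := by
    apply Nat.cast_injective (R := ℤ)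
    push_cast
    refine mul_right_cancel₀ (show (2 * ((2 : ℤ) ^ k * o)) ≠ 0 by
      have := ho.pos
      positivity) ?_
    rw [pow_add, pow_add, pow_succ]
    linear_combination h1
  have := two_part (hg.mul ho) (((hp.odd_of_ne_two (by have := D.rmod; omega)).mul hd.pow).mul
    (Nat.odd_iff.2 (by omega))) h2
  rw [hS, show s = k + 1 by omega]

/-- The two-part in the doubly transitive case with three fixed points. -/
theorem parts_three (D : Deg G Ω P t b η f r φ) (hf : f + 1 = 3 * p) (hr : r = 3) (S : Sylow 2 G) :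
    ∃ k o s, Odd o ∧ p = 2 ^ k * o + 1 ∧ Nat.card (S : Subgroup G) = 2 ^ s ∧ 2 * k = s + 1 := by
  have hp : p.Prime := Fact.out
  have := hp.two_le
  have hp4 : p % 4 = 1 := by rcases D.rmod with ⟨h1, -⟩ | ⟨-, h2⟩ <;> omega
  obtain ⟨s, g, d, hg, hd, hS, hG, hc⟩ := sylow_parts D S
  obtain ⟨k, o, ho, hk⟩ := exists_two_part (show p - 1 ≠ 0 by omega)
  refine ⟨k, o, s, ho, by omega, hS, ?_⟩
  have h1 := D.order
  rw [D.phi_one hf, hr, hG, hc] at h1
  obtain ⟨e, he, heo⟩ : ∃ e, f = 2 * e ∧ Odd e := ⟨f / 2, by omega, Nat.odd_iff.2 (by omega)⟩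
  have hf1 : (f : ℤ) - ((3 : ℕ) - 1) = 3 * (2 ^ k * o) := by
    have : f = 3 * (2 ^ k * o) + 2 := by omega
    rw [this]; push_cast; ring
  rw [hf1, show (f : ℤ) - 1 = ((f - 1 : ℕ) : ℤ) by omega] at h1
  have h2 : 2 ^ (s + (k + k)) * (g * 9 * o ^ 2) = 2 ^ (s + s + 1) * (p * d ^ 2 * e * (f - 1)) := by
    apply Nat.cast_injective (R := ℤ)
    have he' : (f : ℤ) = 2 * e := by exact_mod_cast he
    generalize (f - 1 : ℕ) = w at h1
    rw [he'] at h1
    push_cast at h1 ⊢
    rw [pow_add, pow_add, pow_succ, pow_add]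
    linear_combination h1
  have := two_part ((hg.mul (by decide)).mul ho.pow) ((((hp.odd_of_ne_two (by omega)).mul hd.pow).mul heo).mul
    (Nat.odd_iff.2 (by omega))) h2
  omega

theorem free_orbits {A : Subgroup G} (L : Set Ω) (hL : ∀ a ∈ A, ∀ x, a • x ∈ L → x ∈ L)
    (hfree : ∀ a ∈ A, ∀ x ∉ L, a • x = x → a = 1) : Nat.card A ∣ Lᶜ.ncard := by
  classical
  let O : SubMulAction A Ω := ⟨Lᶜ, fun a x hx hax => hx (hL a a.2 x hax)⟩
  have horb : ∀ q : orbitRel.Quotient A O, Nat.card q.orbit = Nat.card A := by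
    intro q
    induction q using Quotient.inductionOn' with
    | _ x =>
      rw [orbitRel.Quotient.orbit_mk, Nat.card_congr (MulAction.orbitEquivQuotientStabilizer A x)]
      have hbot : stabilizer A x = ⊥ := (Subgroup.eq_bot_iff_forall _).2 fun a ha =>
        Subtype.ext (hfree a a.2 x x.2 (congrArg Subtype.val (mem_stabilizer_iff.1 ha)))
      show (stabilizer A x).index = _
      rw [hbot, Subgroup.index_bot]
  haveI : Fintype (orbitRel.Quotient A O) := Fintype.ofFinite _
  refine ⟨Fintype.card (orbitRel.Quotient A O), ?_⟩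
  rw [← Nat.card_coe_set_eq, show Nat.card ↥(Lᶜ) = Nat.card O from rfl,
    Nat.card_congr (selfEquivSigmaOrbits' A O), Nat.card_sigma, Finset.sum_congr rfl fun q _ => horb q,
    Finset.sum_const, Finset.card_univ, smul_eq_mul, mul_comm]

/-- The facts about a semidihedral Sylow subgroup. -/
structure SD (G : Type u) [Group G] (S : Sylow 2 G) (n : ℕ) (a w : G) : Prop where
  hn : 3 ≤ n
  hcard : Nat.card (S : Subgroup G) = 2 ^ (n + 1)
  haS : a ∈ (S : Subgroup G)
  hwS : w ∈ (S : Subgroup G)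
  ha : orderOf a = 2 ^ n
  hwa : w * a * w⁻¹ = a ^ (2 ^ (n - 1) - 1)
  hgen : ∀ g ∈ (S : Subgroup G), g ∈ Subgroup.zpowers a ∨ ∃ j : ℕ, g = w * a ^ j
  hout : ∀ j : ℕ, (w * a ^ j) ^ 4 = 1
  hwna : ¬ Commute w a
  hnotinv : a ^ (2 ^ (n - 1) - 1) ≠ a⁻¹

theorem exists_SD (S : Sylow 2 G) (hQD : IsQuasiDihedral (S : Subgroup G)) : ∃ n a w, SD G S n a w := by
  classical
  obtain ⟨n, hn, hc, x, y, hx, hy, hyx⟩ := hQD
  set a : G := (x : G)
  set w : G := (y : G)
  have ha : orderOf a = 2 ^ n := by rw [Subgroup.orderOf_coe, hx]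
  have hw : orderOf w = 2 := by rw [Subgroup.orderOf_coe, hy]
  have hwa : w * a * w⁻¹ = a ^ (2 ^ (n - 1) - 1) := by
    have := congrArg Subtype.val hyx
    simpa using this
  obtain ⟨e, he⟩ : ∃ e, 2 ^ (n - 1) = 4 * e + 4 := ⟨2 ^ (n - 1 - 2) - 1, by
    have h1 : 2 ^ (n - 1) = 4 * 2 ^ (n - 1 - 2) := by
      rw [show (4 : ℕ) = 2 ^ 2 from rfl, ← pow_add]; congr 1; omega
    have := Nat.one_le_two_pow (n := n - 1 - 2)
    omega⟩
  have hh : 2 ^ n = 8 * e + 8 := by
    have h0 := pow_succ 2 (n - 1)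
    rw [show n - 1 + 1 = n by omega, he] at h0
    omega
  have hne : ∀ i : ℕ, 0 < i → i < 2 ^ n → a ^ i ≠ 1 := fun i h0 h1 e0 => by
    have := Nat.le_of_dvd h0 (orderOf_dvd_of_pow_eq_one e0)
    omega
  have hwna : ¬ Commute w a := fun hc => by
    have h1 : w * a * w⁻¹ = a := by rw [hc.eq, mul_inv_cancel_right]
    rw [hwa, he, show 4 * e + 4 - 1 = (4 * e + 2) + 1 by omega, pow_succ, mul_eq_right] at h1
    exact hne _ (by omega) (by omega) h1
  refine ⟨n, a, w, hn, hc, x.2, y.2, ha, hwa, fun g hg => ?_, fun j => ?_, hwna, fun e0 => ?_⟩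
  · have hidx : (Subgroup.zpowers x).index = 2 := by
      have h1 := (Subgroup.zpowers x).card_mul_index
      rw [Nat.card_zpowers, hx, hc, pow_succ] at h1
      exact Nat.eq_of_mul_eq_mul_left (by positivity) h1
    have hmem : ∀ s : (S : Subgroup G), s ∈ Subgroup.zpowers x → (s : G) ∈ Subgroup.zpowers a := by
      rintro _ ⟨i, rfl⟩
      exact ⟨i, by simp [a]⟩
    by_cases hgx : (⟨g, hg⟩ : (S : Subgroup G)) ∈ Subgroup.zpowers x
    · exact Or.inl (hmem _ hgx)
    · have hyA : y ∉ Subgroup.zpowers x := fun hh' => by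
        obtain ⟨i, hi⟩ := hmem _ hh'
        refine hwna (show Commute w a from ?_)
        rw [show w = a ^ i from hi.symm]
        exact Commute.zpow_self a i
      have h1 : y⁻¹ * ⟨g, hg⟩ ∈ Subgroup.zpowers x := by
        rw [Subgroup.mul_mem_iff_of_index_two hidx, inv_mem_iff]
        exact iff_of_false hyA hgx
      obtain ⟨i, hi⟩ := (mem_zpowers_iff_mem_range_orderOf.1 (hmem _ h1) |> Finset.mem_image.1)
      exact Or.inr ⟨i, by rw [hi.2]; simp [w]⟩
  · have hw2 : w * w = 1 := by rw [← sq]; exact orderOf_dvd_iff_pow_eq_one.1 hw.dvd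
    have h1 : (w * a ^ j) ^ 2 = a ^ ((2 ^ (n - 1) - 1) * j + j) := by
      rw [pow_add, pow_mul, ← hwa, conj_pow, inv_eq_of_mul_eq_one_right hw2, sq]
      group
    rw [show (4 : ℕ) = 2 * 2 from rfl, pow_mul, h1, ← pow_mul,
      show ((2 ^ (n - 1) - 1) * j + j) * 2 = 2 ^ n * j by
        rw [he, hh, show 4 * e + 4 - 1 = 4 * e + 3 by omega]; ring,
      pow_mul, ← ha, pow_orderOf_eq_one, one_pow]
  · rw [eq_inv_iff_mul_eq_one, ← pow_succ, he] at e0
    exact hne _ (by omega) (by omega) e0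

namespace SD

variable {S : Sylow 2 G} {n : ℕ} {a w : G} (Q : SD G S n a w)
include Q

theorem mem_of_order {g : G} (hg : g ∈ (S : Subgroup G)) (ho : orderOf g = 2 ^ n) : g ∈ Subgroup.zpowers a := by
  refine (Q.hgen g hg).resolve_right ?_
  rintro ⟨j, rfl⟩
  have := Nat.le_of_dvd (by norm_num) (orderOf_dvd_of_pow_eq_one (Q.hout j))
  have := Nat.pow_le_pow_right two_pos Q.hn
  omega

theorem mem_of_commute {g : G} (hg : g ∈ (S : Subgroup G)) (hc : Commute g a) : g ∈ Subgroup.zpowers a := by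
  refine (Q.hgen g hg).resolve_right ?_
  rintro ⟨j, rfl⟩
  refine Q.hwna ?_
  have h1 : Commute (a ^ j)⁻¹ a := ((Commute.refl a).pow_left j).inv_left
  simpa using hc.mul_left h1

theorem center_eq {z : G} (hzS : z ∈ (S : Subgroup G)) (hz : orderOf z = 2)
    (hzc : ∀ s ∈ (S : Subgroup G), s * z = z * s) : z = a ^ 2 ^ (n - 1) := by
  classical
  have hn := Q.hn
  obtain ⟨i, hi⟩ := (mem_zpowers_iff_mem_range_orderOf.1
    (Q.mem_of_commute hzS (hzc a Q.haS).symm) |> Finset.mem_image.1)
  obtain ⟨hi1, rfl⟩ := hi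
  rw [Finset.mem_range, Q.ha] at hi1
  have h2 : 2 ^ n ∣ i * 2 := by
    rw [← Q.ha]
    exact orderOf_dvd_of_pow_eq_one (by rw [pow_mul]; exact orderOf_dvd_iff_pow_eq_one.1 hz.dvd)
  have hp2 : 2 ^ n = 2 ^ (n - 1) * 2 := by rw [← pow_succ]; congr 1; omega
  rw [hp2] at h2 hi1
  obtain ⟨c, hc⟩ := Nat.dvd_of_mul_dvd_mul_right two_pos h2
  have hc2 : c < 2 := by
    by_contra hlt
    have : 2 ^ (n - 1) * 2 ≤ 2 ^ (n - 1) * c := Nat.mul_le_mul_left _ (by omega)
    omega
  interval_cases c
  · rw [mul_zero] at hc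
    rw [hc, pow_zero, orderOf_one] at hz
    omega
  · rw [mul_one] at hc
    rw [hc]

/-- A nontrivial power of `a` has the central involution among its powers. -/
theorem top_mem {g : G} (hg : g ∈ Subgroup.zpowers a) (hg1 : g ≠ 1) :
    a ^ 2 ^ (n - 1) ∈ Subgroup.zpowers g := by
  classical
  obtain ⟨i, hi⟩ := (mem_zpowers_iff_mem_range_orderOf.1 hg |> Finset.mem_image.1)
  obtain ⟨hi1, rfl⟩ := hi
  rw [Finset.mem_range, Q.ha] at hi1
  have hi0 : i ≠ 0 := fun e => hg1 (by rw [e, pow_zero])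
  obtain ⟨j, o, ho, rfl⟩ := exists_two_part hi0
  have hjn : j < n := by
    by_contra hlt
    have : 2 ^ n * 1 ≤ 2 ^ j * o := Nat.mul_le_mul (Nat.pow_le_pow_right two_pos (by omega)) ho.pos
    omega
  obtain ⟨l, hl⟩ := ho
  refine ⟨(2 ^ (n - 1 - j) : ℕ), ?_⟩
  show (a ^ (2 ^ j * o)) ^ ((2 ^ (n - 1 - j) : ℕ) : ℤ) = _
  rw [zpow_natCast, ← pow_mul, hl, mul_right_comm, ← pow_add, show j + (n - 1 - j) = n - 1 by omega, mul_add,
    mul_one, pow_add, pow_mul, show a ^ 2 ^ (n - 1) = a ^ 2 ^ (n - 1) from rfl, pow_mul, ← pow_mul a,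
    ← pow_succ, show n - 1 + 1 = n by have := Q.hn; omega, ← Q.ha, pow_orderOf_eq_one, one_pow, one_mul]

end SD

theorem not_quasiDihedral (h : Hyp G Ω P) (D : Deg G Ω P t b η f r φ) (hr : r = 3)
    (hf : f + 1 = 2 * p ∨ f + 1 = 3 * p) {S : Sylow 2 G} {z v : G} (Fr : Frame G Ω S z v) :
    ¬ IsQuasiDihedral (S : Subgroup G) := by
  classical
  intro hQD
  haveI : Fact (Nat.Prime 2) := ⟨Nat.prime_two⟩
  haveI : Fintype Ω := Fintype.ofFinite Ω
  have hp : p.Prime := Fact.out
  have hp5 := h.hp5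
  obtain ⟨n, a, w, Q⟩ := exists_SD S hQD
  have hn := Q.hn
  obtain ⟨α, hα⟩ := Fr.hfix
  obtain ⟨β, hzβ, hvβ⟩ := Fr.hmove
  have hz : z = a ^ 2 ^ (n - 1) := Q.center_eq Fr.hzS Fr.hz Fr.hzc
  set A := Subgroup.zpowers a
  have hAS : A ≤ (S : Subgroup G) := Subgroup.zpowers_le.2 Q.haS
  set L := fixedBy Ω z with hLdef
  have hcardL : L.ncard = 3 := by rw [← Nat.card_coe_set_eq]; exact (D.fix z Fr.hz).trans hr
  have hαL : α ∈ L := hα z Fr.hzS
  have hSL : ∀ g ∈ (S : Subgroup G), ∀ x, g • x ∈ L → x ∈ L := fun g hg x hx => by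
    rw [hLdef, mem_fixedBy, ← mul_smul, ← Fr.hzc g hg, mul_smul, smul_left_cancel_iff] at hx
    exact hx
  -- semiregularity
  have hfree : ∀ g ∈ A, ∀ x ∉ L, g • x = x → g = 1 := fun g hg x hx hgx => by
    by_contra hg1
    refine hx ?_
    have h1 : a ^ 2 ^ (n - 1) ∈ stabilizer G x :=
      (Subgroup.zpowers_le.2 (show g ∈ stabilizer G x from hgx)) (Q.top_mem hg hg1)
    rw [← hz] at h1
    exact h1
  have hdvd := free_orbits (A := A) L (fun g hg => hSL g (hAS hg)) hfree
  rw [Nat.card_zpowers, Q.ha, Set.ncard_compl, hcardL, h.hΩ] at hdvd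
  have hdvd' : ∀ k o, Odd o → p = 2 ^ k * o + 1 → n ≤ k := fun k o ho hk => by
    have h1 : 3 * p - 3 = 2 ^ k * (3 * o) := by rw [hk]; rw [mul_add]; ring_nf; omega
    rw [h1] at hdvd
    have h2 : (2 ^ n).Coprime (3 * o) :=
      Nat.Coprime.pow_left _ (Nat.coprime_two_left.2 ((Nat.odd_iff.2 (by norm_num : 3 % 2 = 1)).mul ho))
    exact (Nat.pow_dvd_pow_iff_le_right (by norm_num)).1 (h2.dvd_of_dvd_mul_right hdvd)
  rcases hf with hf | hf
  swap
  · obtain ⟨k, o, s, ho, hk, hS, hks⟩ := parts_three D hf hr S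
    have := hdvd' k o ho hk
    have h2 := Nat.pow_right_injective le_rfl (hS.symm.trans Q.hcard)
    omega
  obtain ⟨k, o, ho, hk, hS⟩ := parts_two D hf S
  have hnk : k = n := by
    have h2 := Nat.pow_right_injective le_rfl (hS.symm.trans Q.hcard)
    omega
  subst hnk
  -- `a` moves `β`
  have haβ : a • β ≠ β := by
    intro haβ
    have hfixL : ∀ x ∈ L, a • x = x := by
      intro x hx
      by_contra hne
      have hxα : x ≠ α := fun e => hne (by rw [e]; exact hα a Q.haS)
      have hxβ : x ≠ β := fun e => hne (by rw [e]; exact haβ)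
      have hαβ : α ≠ β := fun e => hvβ (e ▸ hα v Fr.hvS)
      have hsub : ({α, β, x, a • x} : Set Ω) ⊆ L := by
        intro y hy
        simp only [Set.mem_insert_iff, Set.mem_singleton_iff] at hy
        rcases hy with rfl | rfl | rfl | rfl
        exacts [hαL, hzβ, hx, hSL a⁻¹ (inv_mem Q.haS) _ (by rwa [inv_smul_smul])]
      have h4 : ({α, β, x, a • x} : Set Ω).ncard = 4 := by
        rw [Set.ncard_eq_succ]
        refine ⟨α, {β, x, a • x}, ?_, rfl,
          Set.ncard_eq_three.2 ⟨β, x, a • x, Ne.symm hxβ, fun e => hxβ (smul_left_cancel a (e ▸ haβ)).symm,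
            fun e => hne e.symm, rfl⟩⟩
        simp only [Set.mem_insert_iff, Set.mem_singleton_iff, not_or]
        exact ⟨hαβ, Ne.symm hxα, fun e => hxα (smul_left_cancel a (e ▸ hα a Q.haS)).symm⟩
      have := Set.ncard_le_ncard hsub (Set.toFinite _)
      omega
    have hn1 : k - 1 + 1 = k := by omega
    have hsgn := h.sign_eq_one (Ω := Ω) a
    rw [sign_semiregular (l := k - 1) (by rw [hn1, ← map_pow, ← Q.ha, pow_orderOf_eq_one, map_one])
      fun x hx => hfixL x (by rw [← map_pow, ← hz] at hx; exact hx)] at hsgn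
    have hfc : Fintype.card (Function.fixedPoints (MulAction.toPermHom G Ω a)) = 3 := by
      rw [← Nat.card_eq_fintype_card, ← hcardL, ← Nat.card_coe_set_eq]
      refine Nat.card_congr (Equiv.setCongr (Set.ext fun x => ⟨fun hx => ?_, fun hx => hfixL x hx⟩))
      show z • x = x
      rw [hz]
      exact Subgroup.pow_mem (stabilizer G x) hx _
    rw [hfc, hn1, ← Nat.card_eq_fintype_card, h.hΩ, neg_one_pow_eq_one_iff_even (by decide)] at hsgn
    have h1 : 3 * p - 3 = 2 ^ k * (3 * o) := by rw [hk, mul_add]; ring_nf; omega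
    rw [h1, Nat.mul_div_cancel_left _ (by positivity)] at hsgn
    exact Nat.not_even_iff_odd.2 ((Nat.odd_iff.2 (by norm_num : 3 % 2 = 1)).mul ho) hsgn
  have hfixa : ∀ x, a • x = x → x = α := by
    intro x hx
    have hxL : x ∈ L := by
      show z • x = x
      rw [hz]; exact Subgroup.pow_mem (stabilizer G x) hx _
    by_contra hne
    have hsub : ({α, β, a • β, x} : Set Ω) ⊆ L := by
      intro y hy
      simp only [Set.mem_insert_iff, Set.mem_singleton_iff] at hy
      rcases hy with rfl | rfl | rfl | rfl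
      exacts [hαL, hzβ, hSL a⁻¹ (inv_mem Q.haS) _ (by rw [inv_smul_smul]; exact hzβ), hxL]
    have h4 : ({α, β, a • β, x} : Set Ω).ncard = 4 := by
      rw [Set.ncard_eq_succ]
      refine ⟨α, {β, a • β, x}, ?_, rfl, Set.ncard_eq_three.2 ⟨β, a • β, x, Ne.symm haβ,
        fun e => haβ (by rw [e]; exact hx), fun e => haβ (smul_left_cancel a (by rw [e, hx])), rfl⟩⟩
      simp only [Set.mem_insert_iff, Set.mem_singleton_iff, not_or]
      exact ⟨fun e => haβ (e ▸ hα a Q.haS), fun e => haβ (by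
        have h0 : a • α = a • β := by rw [hα a Q.haS]; exact e
        rw [← smul_left_cancel a h0]; exact hα a Q.haS), Ne.symm hne⟩
    have := Set.ncard_le_ncard hsub (Set.toFinite _)
    omega
  -- the centralizer of `a`
  set C := Subgroup.centralizer ({a} : Set G) with hCdef
  have hACle : A ≤ C := Subgroup.zpowers_le.2 (Subgroup.mem_centralizer_singleton_iff.2 rfl)
  set A' := A.subgroupOf C with hA'
  have hA'c : Nat.card A' = 2 ^ k := by
    rw [Nat.card_congr (Subgroup.subgroupOfEquivOfLe hACle).toEquiv, Nat.card_zpowers, Q.ha]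
  haveI hA'n : A'.Normal := ⟨fun x hx g => by
    rw [hA', Subgroup.mem_subgroupOf] at hx ⊢
    obtain ⟨i, hi⟩ := hx
    refine ⟨i, ?_⟩
    simp only [Subgroup.coe_mul, Subgroup.coe_inv, ← hi]
    have hga : Commute (g : G) a := Subgroup.mem_centralizer_singleton_iff.1 g.2
    rw [(hga.zpow_right i).eq, mul_inv_cancel_right]⟩
  set m := A'.index with hmdef
  have hmodd : Odd m := by
    rw [← Nat.not_even_iff_odd, even_iff_two_dvd]
    intro h2
    have hAp : IsPGroup 2 A' := IsPGroup.of_card hA'c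
    obtain ⟨R, hR⟩ := hAp.exists_le_sylow
    obtain ⟨T, hT⟩ := (R.isPGroup'.map C.subtype).exists_le_sylow
    obtain ⟨g, hg⟩ := MulAction.exists_smul_eq G S T
    have hRA : (R : Subgroup C) ≤ A' := by
      intro x hx
      have hxT : (x : G) ∈ (T : Subgroup G) := hT ⟨x, hx, rfl⟩
      have haT : a ∈ (T : Subgroup G) := hT ⟨⟨a, hACle (Subgroup.mem_zpowers a)⟩, hR (Subgroup.mem_zpowers a), rfl⟩
      rw [← hg, Sylow.coe_subgroup_smul] at hxT haT
      obtain ⟨x', hx', ex⟩ := hxT
      obtain ⟨a', ha', ea⟩ := haT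
      have ex' : g * x' * g⁻¹ = (x : G) := ex
      have ea' : g * a' * g⁻¹ = a := ea
      have hao : orderOf a' = 2 ^ k := by rw [← Q.ha, ← ea', ← MulAut.conj_apply, MulEquiv.orderOf_eq]
      have ha'A := Q.mem_of_order ha' hao
      have hAeq : Subgroup.zpowers a' = A := Subgroup.eq_of_le_of_card_ge (Subgroup.zpowers_le.2 ha'A)
        (by rw [Nat.card_zpowers, Nat.card_zpowers, hao, Q.ha])
      have hcom : Commute x' a' := by
        have h0 : (x : G) * a = a * x := Subgroup.mem_centralizer_singleton_iff.1 x.2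
        rw [← ex', ← ea'] at h0
        show x' * a' = a' * x'
        calc x' * a' = g⁻¹ * (g * x' * g⁻¹ * (g * a' * g⁻¹)) * g := by group
          _ = g⁻¹ * (g * a' * g⁻¹ * (g * x' * g⁻¹)) * g := by rw [h0]
          _ = a' * x' := by group
      have hxa : Commute x' a := by
        obtain ⟨i, hi⟩ := (show a ∈ Subgroup.zpowers a' by rw [hAeq]; exact Subgroup.mem_zpowers a)
        have hi' : a' ^ i = a := hi
        exact hi' ▸ hcom.zpow_right i
      obtain ⟨i, hi⟩ := (show x' ∈ Subgroup.zpowers a' by rw [hAeq]; exact Q.mem_of_commute hx' hxa)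
      rw [hA', Subgroup.mem_subgroupOf]
      refine ⟨i, ?_⟩
      show a ^ i = (x : G)
      rw [← ea', conj_zpow, ← ex', ← hi]
    exact R.not_dvd_index ((le_antisymm hRA hR).symm ▸ h2)
  have hCcard : Nat.card C = 2 ^ k * m := by rw [← A'.card_mul_index, hA'c]
  haveI : Fintype C := Fintype.ofFinite _
  set aC : C := ⟨a, hACle (Subgroup.mem_zpowers a)⟩
  let μ : C →* ℤˣ := Equiv.Perm.sign.comp (MulAction.toPermHom C C)
  have hμa : μ aC = -1 := by
    show Equiv.Perm.sign (MulAction.toPermHom C C aC) = -1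
    have hn1 : k - 1 + 1 = k := by omega
    have haC : aC ^ 2 ^ k = 1 := Subtype.ext (by
      rw [SubmonoidClass.coe_pow, Subgroup.coe_one]; exact Q.ha ▸ pow_orderOf_eq_one a)
    rw [sign_semiregular (l := k - 1) (by rw [hn1, ← map_pow, haC, map_one]) fun x hx => by
      exfalso
      rw [← map_pow] at hx
      have h0 : aC ^ 2 ^ (k - 1) = 1 := mul_eq_right.1 (show aC ^ 2 ^ (k - 1) * x = x from hx)
      have h1 := congrArg Subtype.val h0
      rw [SubmonoidClass.coe_pow, Subgroup.coe_one, ← hz] at h1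
      exact absurd (orderOf_eq_one_iff.2 h1) (by rw [Fr.hz]; norm_num)]
    have hfix0 : Fintype.card (Function.fixedPoints (MulAction.toPermHom C C aC)) = 0 := by
      rw [Fintype.card_eq_zero_iff]
      refine ⟨fun ⟨x, hx⟩ => ?_⟩
      have h0 : aC = 1 := mul_eq_right.1 (show aC * x = x from hx)
      have h1 : a = 1 := congrArg Subtype.val h0
      have := Q.ha
      rw [h1, orderOf_one] at this
      have := Nat.one_lt_two_pow (n := k) (by omega)
      omega
    rw [hfix0, Nat.sub_zero, ← Nat.card_eq_fintype_card, hn1, hCcard, Nat.mul_div_cancel_left _ (by positivity)]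
    exact hmodd.neg_one_pow
  have hμodd : ∀ x : C, x ^ m = 1 → μ x = 1 := fun x hx => by
    have h0 := congrArg μ hx
    rw [map_pow, map_one] at h0
    rcases Int.units_eq_one_or (μ x) with e | e
    · exact e
    · rw [e, hmodd.neg_one_pow] at h0; rw [e]; exact h0
  -- elements with `μ = -1` generate `A`
  have hgenA : ∀ x : C, μ x = -1 → ∃ i : ℕ, Odd i ∧ (x : G) ^ m = a ^ i := by
    intro x hx
    have h0 : x ^ m ∈ A' := Subgroup.pow_index_mem A' x
    rw [hA', Subgroup.mem_subgroupOf, SubmonoidClass.coe_pow] at h0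
    obtain ⟨i, hi⟩ := (mem_zpowers_iff_mem_range_orderOf.1 h0 |> Finset.mem_image.1)
    refine ⟨i, ?_, hi.2.symm⟩
    have h1 : x ^ m = aC ^ i := Subtype.ext (by rw [SubmonoidClass.coe_pow, SubmonoidClass.coe_pow]; exact hi.2.symm)
    have h2 := congrArg μ h1
    rw [map_pow, map_pow, hx, hμa, hmodd.neg_one_pow, eq_comm, neg_one_pow_eq_neg_one_iff_odd (by decide)] at h2
    exact h2
  have haPow : ∀ x : C, μ x = -1 → a ∈ Subgroup.zpowers (x : G) := by
    intro x hx
    obtain ⟨i, hi, hxi⟩ := hgenA x hx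
    obtain ⟨j, hj⟩ := Nat.exists_mul_mod_eq_one_of_coprime
      (show i.Coprime (2 ^ k) from Nat.Coprime.pow_right _ (Nat.coprime_two_right.2 hi))
      (Nat.one_lt_two_pow (by omega))
    refine ⟨((m * j : ℕ) : ℤ), ?_⟩
    show (x : G) ^ ((m * j : ℕ) : ℤ) = a
    rw [zpow_natCast, pow_mul, hxi, ← pow_mul, ← pow_mod_orderOf, Q.ha, hj.2, pow_one]
  -- the normalizer of `A`
  set N := Subgroup.normalizer (A : Set G)
  have hCA : Subgroup.centralizer (A : Set G) = C := by
    rw [hCdef, ← Subgroup.centralizer_closure ({a} : Set G), ← Subgroup.zpowers_eq_closure]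
  have hCN : C ≤ N := hCA ▸ Subgroup.centralizer_le_normalizer _
  have hwN : w ∈ N := Subgroup.mem_normalizer_fintype (S := (A : Set G)) fun x hx => by
    obtain ⟨i, rfl⟩ := hx
    exact ⟨((2 ^ (k - 1) - 1 : ℕ) : ℤ) * i, by
      show a ^ _ = w * a ^ i * w⁻¹
      rw [zpow_mul, zpow_natCast, ← Q.hwa, conj_zpow]⟩
  have hwC : w ∉ C := fun hwC => Q.hwna (Subgroup.mem_centralizer_singleton_iff.1 hwC)
  have hidx : (C.subgroupOf N).index = 2 := by
    haveI : IsCyclic A := by infer_instance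
    have h1 : (C.subgroupOf N).index ∣ Nat.card (MulAut A) := by
      rw [← hCA, ← Subgroup.normalizerMonoidHom_ker, Subgroup.index_ker]
      exact Subgroup.card_subgroup_dvd_card _
    rw [IsCyclic.card_mulAut, Nat.card_zpowers, Q.ha, Nat.totient_prime_pow Nat.prime_two (by omega),
      show (2 : ℕ) - 1 = 1 from rfl, mul_one] at h1
    obtain ⟨e, -, he⟩ := (Nat.dvd_prime_pow Nat.prime_two).1 h1
    have h2 : Nat.card C * (C.subgroupOf N).index ∣ Nat.card G := by
      rw [← Nat.card_congr (Subgroup.subgroupOfEquivOfLe hCN).toEquiv, Subgroup.card_mul_index]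
      exact Subgroup.card_subgroup_dvd_card N
    rw [hCcard, he] at h2
    obtain ⟨s, g, d, hg, -, hS', hG, -⟩ := sylow_parts D S
    have hs : s = k + 1 := Nat.pow_right_injective le_rfl (hS'.symm.trans hS)
    have h3 : 2 ^ (k + e) ∣ 2 ^ (k + 1) * g := by
      rw [← hs, ← hG, pow_add]
      exact (Nat.mul_dvd_mul_right (dvd_mul_right _ m) _).trans h2
    have he1 : e ≤ 1 := by
      have := (Nat.pow_dvd_pow_iff_le_right (by norm_num)).1
        ((Nat.Coprime.pow_left _ (Nat.coprime_two_left.2 hg)).dvd_of_dvd_mul_right h3)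
      omega
    have he0 : e ≠ 0 := fun e0 => hwC (by
      rw [e0, pow_zero, Subgroup.index_eq_one, Subgroup.subgroupOf_eq_top] at he
      exact he hwN)
    rw [he, show e = 1 by omega, pow_one]
  have hNconj : ∀ g ∈ N, g * a * g⁻¹ = a ∨ g * a * g⁻¹ = a ^ (2 ^ (k - 1) - 1) := by
    intro g hg
    by_cases hgC : g ∈ C
    · left; rw [Subgroup.mem_centralizer_singleton_iff.1 hgC, mul_inv_cancel_right]
    · right
      have h1 : w⁻¹ * g ∈ C := by
        have := (Subgroup.mul_mem_iff_of_index_two hidx (a := (⟨w, hwN⟩ : N)⁻¹) (b := ⟨g, hg⟩)).2 (by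
          rw [inv_mem_iff, Subgroup.mem_subgroupOf, Subgroup.mem_subgroupOf]; exact iff_of_false hwC hgC)
        exact this
      have h2 := Subgroup.mem_centralizer_singleton_iff.1 h1
      rw [← Q.hwa]
      calc g * a * g⁻¹ = w * ((w⁻¹ * g) * a) * g⁻¹ := by group
        _ = w * (a * (w⁻¹ * g)) * g⁻¹ := by rw [h2]
        _ = w * a * w⁻¹ := by group
  -- no special element is inverted by an involution
  have hpair : ∀ x : C, μ x = -1 → pairCount t t (x : G) = 0 := by
    intro x hx
    rw [pairCount, Nat.card_eq_zero]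
    refine Or.inl ⟨fun ⟨y, hy, hy'⟩ => ?_⟩
    have h1 := h.mul_self_of_isConj D.ht hy
    have h2 := h.mul_self_of_isConj D.ht hy'
    have hyi := inv_eq_of_mul_eq_one_right h1
    rw [hyi] at h2
    have h3 : y * (x : G) * y⁻¹ = (x : G)⁻¹ := by
      rw [hyi]; exact eq_inv_of_mul_eq_one_left (by rw [← h2]; group)
    obtain ⟨i, hi⟩ := haPow x hx
    have hi' : (x : G) ^ i = a := hi
    have h4 : y * a * y⁻¹ = a⁻¹ := by rw [← hi', ← conj_zpow, h3, inv_zpow]
    have hyN : y ∈ N := Subgroup.mem_normalizer_fintype (S := (A : Set G)) fun g hg => by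
      obtain ⟨j, rfl⟩ := hg
      exact ⟨-j, by
        show a ^ (-j) = y * a ^ j * y⁻¹
        rw [← conj_zpow, h4, zpow_neg, inv_zpow]⟩
    rcases hNconj y hyN with e | e <;> rw [h4] at e
    · have h5 : a ^ 2 = 1 := by rw [sq]; nth_rewrite 1 [← e]; exact inv_mul_cancel a
      have h6 := Nat.le_of_dvd two_pos (orderOf_dvd_of_pow_eq_one h5)
      rw [Q.ha] at h6
      have := Nat.pow_le_pow_right two_pos hn
      omega
    · exact Q.hnotinv e.symm
  -- the special class function
  let lam : C →* ℂˣ := (Units.map (Int.castRingHom ℂ).toMonoidHom).comp μ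
  let δ : C → ℂ := (fun _ => (1 : ℂ)) - fun x => (lam x : ℂ)
  have hδv : ∀ x : C, δ x = if μ x = -1 then 2 else 0 := fun x => by
    rcases Int.units_eq_one_or (μ x) with e | e <;> simp [δ, lam, e] <;> norm_num
  have hδsum : ∑ x : C, δ x = (Nat.card C : ℂ) := by
    have h1 : ∑ x : C, (lam x : ℂ) = 0 := by
      have h2 := classInner_irr_ne (isIrrCharacter_linear lam) (isIrrCharacter_one (G := C)) fun e => by
        have := congrFun e aC
        simp [lam, hμa] at this
        norm_num at this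
      simp only [classInner, map_one, mul_one, mul_eq_zero, inv_eq_zero, Nat.cast_eq_zero] at h2
      exact h2.resolve_left Nat.card_pos.ne'
    simp only [δ, Pi.sub_apply, Finset.sum_sub_distrib, h1, sub_zero, Finset.sum_const, Finset.card_univ,
      nsmul_eq_mul, mul_one, ← Nat.card_eq_fintype_card]
  have hCne : (Nat.card C : ℂ) ≠ 0 := Nat.cast_ne_zero.2 Nat.card_pos.ne'
  set F := indFun C δ with hF
  have hFgen : IsGeneralizedCharacter G F := isGenChar_indFun C
    ⟨_, _, isCharacter_of_irr isIrrCharacter_one, isCharacter_of_irr (isIrrCharacter_linear lam), rfl⟩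
  have hcoef : ∀ (χ : G → ℂ) (cst : ℤ), IsClassFunction G χ → (∀ x : C, μ x = -1 → χ x = cst) →
      classInner F χ = cst := by
    intro χ cst hχ hval
    rw [hF, frobenius_reciprocity C δ hχ, classInner, Finset.sum_congr rfl fun x _ => show
      δ x * conj (χ x) = δ x * (cst : ℂ) by
        by_cases e : μ x = -1
        · rw [hval x e, map_intCast]
        · rw [hδv, if_neg e, zero_mul, zero_mul],
      ← Finset.sum_mul, hδsum, inv_mul_cancel_left₀ hCne]
  have hFval : ∀ x : C, μ x = -1 → F x = 4 := by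
    intro x hx
    rw [hF, indFun, Finset.sum_congr rfl fun g _ => show
      extendByZero C δ (g⁻¹ * (x : G) * g) = if g ∈ N then 2 else 0 by
        split_ifs with hgN
        · have hgN' := inv_mem hgN
          have hga : g⁻¹ * a * g ∈ A := by
            have := (Subgroup.mem_normalizer_iff.1 hgN' a).1 (Subgroup.mem_zpowers a)
            rwa [inv_inv] at this
          have hy : g⁻¹ * (x : G) * g ∈ C := by
            rw [Subgroup.mem_centralizer_singleton_iff]
            have hxa := Subgroup.mem_centralizer_singleton_iff.1 x.2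
            rcases hNconj g⁻¹ hgN' with e | e <;> rw [inv_inv] at e
            · nth_rewrite 1 [← e]; nth_rewrite 2 [← e]
              calc g⁻¹ * (x : G) * g * (g⁻¹ * a * g) = g⁻¹ * ((x : G) * a) * g := by group
                _ = g⁻¹ * (a * x) * g := by rw [hxa]
                _ = g⁻¹ * a * g * (g⁻¹ * (x : G) * g) := by group
            · have hgi := hNconj g hgN
              have hcx : Commute (x : G) (g * a * g⁻¹) := by
                rcases hgi with e' | e' <;> rw [e']
                · exact hxa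
                · exact Commute.pow_right hxa _
              calc g⁻¹ * (x : G) * g * a = g⁻¹ * ((x : G) * (g * a * g⁻¹)) * g := by group
                _ = g⁻¹ * ((g * a * g⁻¹) * x) * g := by rw [hcx.eq]
                _ = a * (g⁻¹ * (x : G) * g) := by group
          rw [extendByZero_of_mem _ _ hy, hδv, if_pos]
          -- the conjugate is still special
          rcases Int.units_eq_one_or (μ ⟨_, hy⟩) with e | e
          swap
          · exact e
          exfalso
          obtain ⟨i, hi, hxi⟩ := hgenA x hx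
          have h0 : (g⁻¹ * (x : G) * g) ^ m = (g⁻¹ * a * g) ^ i := by
            have e1 := conj_pow (i := m) (a := g⁻¹) (b := (x : G))
            have e2 := conj_pow (i := i) (a := g⁻¹) (b := a)
            rw [inv_inv] at e1 e2
            rw [e1, e2, hxi]
          obtain ⟨j, hj⟩ := (mem_zpowers_iff_mem_range_orderOf.1 hga |> Finset.mem_image.1)
          have h1 : (⟨_, hy⟩ : C) ^ m = aC ^ (j * i) := Subtype.ext (by
            rw [SubmonoidClass.coe_pow, SubmonoidClass.coe_pow, h0, pow_mul]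
            exact congrArg (· ^ i) hj.2.symm)
          have h2 := congrArg μ h1
          rw [map_pow, map_pow, e, one_pow, hμa, eq_comm, neg_one_pow_eq_one_iff_even (by decide)] at h2
          have hjodd : Odd j := by
            rw [← Nat.not_even_iff_odd]
            rintro ⟨l, hl⟩
            have h5 : orderOf (g⁻¹ * a * g) ∣ 2 ^ (k - 1) := orderOf_dvd_of_pow_eq_one (by
              rw [← hj.2, ← pow_mul, hl, ← two_mul, mul_comm 2 l, mul_assoc, ← pow_succ',
                show k - 1 + 1 = k by omega, mul_comm, pow_mul, ← Q.ha, pow_orderOf_eq_one, one_pow])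
            have h6 : orderOf (g⁻¹ * a * g) = 2 ^ k := by
              have e3 : MulAut.conj g⁻¹ a = g⁻¹ * a * g := by simp
              rw [← e3, MulEquiv.orderOf_eq, Q.ha]
            rw [h6, Nat.pow_dvd_pow_iff_le_right (by norm_num)] at h5
            omega
          exact Nat.not_even_iff_odd.2 (hjodd.mul hi) h2
        · rcases em (g⁻¹ * (x : G) * g ∈ C) with hy | hy
          · rw [extendByZero_of_mem _ _ hy, hδv, if_neg]
            intro e
            refine hgN ?_
            obtain ⟨i, hi⟩ := haPow x hx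
            have hi' : (x : G) ^ i = a := hi
            have h0 : g⁻¹ * a * g ∈ C := by
              have e2 := conj_zpow (i := i) (a := g⁻¹) (b := (x : G))
              rw [inv_inv] at e2
              rw [← hi', ← e2]
              exact Subgroup.zpow_mem C hy i
            have h1 : g⁻¹ * a * g ∈ A := by
              have h2 : (⟨_, h0⟩ : C) ^ m ∈ A' := Subgroup.pow_index_mem A' _
              rw [hA', Subgroup.mem_subgroupOf, SubmonoidClass.coe_pow] at h2
              have h3 : (g⁻¹ * a * g) ^ 2 ^ k = 1 := by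
                have e2 := conj_pow (i := 2 ^ k) (a := g⁻¹) (b := a)
                rw [inv_inv] at e2
                rw [e2, ← Q.ha, pow_orderOf_eq_one]; group
              obtain ⟨j, hj⟩ := Nat.exists_mul_mod_eq_one_of_coprime
                (show m.Coprime (2 ^ k) from Nat.Coprime.pow_right _ (Nat.coprime_two_right.2 hmodd))
                (Nat.one_lt_two_pow (by omega))
              have h4 : ((g⁻¹ * a * g) ^ m) ^ j = g⁻¹ * a * g := by
                rw [← pow_mul, pow_eq_pow_mod _ h3, hj.2, pow_one]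
              exact h4 ▸ Subgroup.pow_mem A h2 j
            refine inv_mem_iff.1 (Subgroup.mem_normalizer_fintype (S := (A : Set G)) fun y hy => ?_)
            obtain ⟨j, rfl⟩ := hy
            rw [inv_inv]
            have e2 := conj_zpow (i := j) (a := g⁻¹) (b := a)
            rw [inv_inv] at e2
            show g⁻¹ * a ^ j * g ∈ A
            rw [← e2]
            exact Subgroup.zpow_mem A h1 j
          · rw [extendByZero_of_not_mem _ _ hy]]
    rw [Finset.sum_ite, Finset.sum_const_zero, add_zero, Finset.sum_const, nsmul_eq_mul]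
    have hcN : (Finset.univ.filter fun g => g ∈ N).card = Nat.card C * 2 := by
      rw [← hidx, ← Nat.card_congr (Subgroup.subgroupOfEquivOfLe hCN).toEquiv, Subgroup.card_mul_index,
        Nat.card_eq_fintype_card, Fintype.card_subtype]
    rw [hcN]
    push_cast
    field_simp
    norm_num
  have hnorm : classInner F F = 4 := by
    nth_rewrite 1 [hF]
    rw [frobenius_reciprocity C δ (indFun_isClassFunction C δ), classInner, Finset.sum_congr rfl fun x _ => show
      δ x * conj (F x) = δ x * 4 by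
        by_cases e : μ x = -1
        · rw [hFval x e]; norm_num [map_ofNat]
        · rw [hδv, if_neg e, zero_mul, zero_mul],
      ← Finset.sum_mul, hδsum, inv_mul_cancel_left₀ hCne]
  -- values at special elements
  have hG2 : (Nat.card G).factorization 2 ≤ k + 1 := by
    obtain ⟨s, g, d, hg, -, hS', hG, -⟩ := sylow_parts D S
    have hs : s = k + 1 := Nat.pow_right_injective le_rfl (hS'.symm.trans hS)
    rw [hG, hs, Nat.factorization_mul (by positivity) (by obtain ⟨_, rfl⟩ := hg; omega), Finsupp.add_apply,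
      Nat.Prime.factorization_pow Nat.prime_two, Finsupp.single_eq_same,
      Nat.factorization_eq_zero_of_not_dvd (by obtain ⟨_, rfl⟩ := hg; omega)]
  have hηdef : 2 ^ (Nat.card G).factorization 2 ∣ charDegree (η : G → ℂ) := by
    refine (pow_dvd_pow 2 hG2).trans ⟨o, ?_⟩
    apply Nat.cast_injective (R := ℂ)
    rw [irr_charDegree_cast, D.rel 1 (by rw [orderOf_one]; exact hp.not_dvd_one), D.fdef]
    have hf' : f = 2 ^ (k + 1) * o + 1 := by rw [pow_succ]; rw [hk] at hf; ring_nf at hf ⊢; omega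
    rw [hf']; push_cast; ring
  have hreg : ∀ x : C, μ x = -1 → ¬ p ∣ orderOf (x : G) ∧ 2 ∣ orderOf (x : G) := by
    intro x hx
    obtain ⟨i, hi⟩ := haPow x hx
    have hi' : (x : G) ^ i = a := hi
    refine ⟨fun hd => ?_, ?_⟩
    · obtain ⟨j, hj⟩ := hd
      have hy : orderOf ((x : G) ^ j) = p := by
        rw [orderOf_pow' _ (fun e => (orderOf_pos (x : G)).ne' (by rw [hj, e, mul_zero])), hj,
          Nat.gcd_eq_right (dvd_mul_left j p), Nat.mul_div_cancel]
        exact Nat.pos_of_ne_zero fun e => (orderOf_pos (x : G)).ne' (by rw [hj, e, mul_zero])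
      obtain ⟨R, hR⟩ := (IsPGroup.of_card (show Nat.card (Subgroup.zpowers ((x : G) ^ j)) = p ^ 1 by
        rw [Nat.card_zpowers, hy, pow_one])).exists_le_sylow
      obtain ⟨g, hg⟩ := MulAction.exists_smul_eq G P R
      have hmem := hR (Subgroup.mem_zpowers _)
      rw [← hg, Sylow.coe_subgroup_smul] at hmem
      obtain ⟨y, hy', hyx⟩ := hmem
      have hyx' : g * y * g⁻¹ = (x : G) ^ j := hyx
      have hy1 : y ≠ 1 := fun e => by
        rw [e, mul_one, mul_inv_cancel] at hyx'
        rw [← hyx', orderOf_one] at hy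
        exact hp.ne_one hy.symm
      have hza : Commute ((x : G) ^ j) z := by
        rw [hz, ← hi']
        exact (((Commute.refl (x : G)).pow_left j).zpow_right i).pow_right _
      have hzC : g⁻¹ * z * g ∈ Subgroup.centralizer ({y} : Set G) := by
        rw [Subgroup.mem_centralizer_singleton_iff]
        have e : y = g⁻¹ * (x : G) ^ j * g := by rw [← hyx']; group
        rw [e]
        calc g⁻¹ * z * g * (g⁻¹ * (x : G) ^ j * g) = g⁻¹ * (z * (x : G) ^ j) * g := by group
          _ = g⁻¹ * ((x : G) ^ j * z) * g := by rw [hza.eq]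
          _ = g⁻¹ * (x : G) ^ j * g * (g⁻¹ * z * g) := by group
      rw [SmallSylow.centralizer_eq P h.hP hy' hy1, h.hC] at hzC
      have h5 := Subgroup.orderOf_dvd_natCard _ hzC
      have e3 : MulAut.conj g⁻¹ z = g⁻¹ * z * g := by simp
      rw [← e3, MulEquiv.orderOf_eq, Fr.hz, show Nat.card (P : Subgroup G) = p from h.hP] at h5
      exact Nat.not_even_iff_odd.2 h.odd (even_iff_two_dvd.2 h5)
    · refine dvd_trans ?_ (orderOf_dvd_of_mem_zpowers (haPow x hx))
      rw [Q.ha]; exact dvd_pow_self 2 (by omega)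
  have hbx : ∀ x : C, μ x = -1 → (b : G → ℂ) x = 1 := fun x hx => by
    have h1 := RealAbove.defect_zero_eq_zero (p := 2) η hηdef (hreg x hx).2
    rw [D.rel _ (hreg x hx).1, sub_eq_zero] at h1
    exact h1
  have hθx : ∀ x : C, μ x = -1 → theta G Ω b x = -1 := fun x hx => by
    have hπ : fixChar G Ω (x : G) = 1 := by
      have hset : fixedBy Ω (x : G) = {α} := by
        ext y
        constructor
        · intro hy
          refine hfixa y ?_
          obtain ⟨i, hi⟩ := haPow x hx
          have hi' : (x : G) ^ i = a := hi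
          rw [← hi']
          exact Subgroup.zpow_mem (stabilizer G y) hy i
        · rintro rfl
          refine hfixa _ ?_
          rw [← mul_smul, ← Subgroup.mem_centralizer_singleton_iff.1 x.2, mul_smul, hα a Q.haS]
      show (Nat.card (fixedBy Ω (x : G)) : ℂ) = 1
      rw [hset, Nat.card_coe_set_eq, Set.ncard_singleton, Nat.cast_one]
    rw [theta, hπ, hbx x hx]; ring
  let θ : IrrCharacter G := ⟨theta G Ω b, D.theta_irr hf⟩
  obtain ⟨cf', hFsum, hFc, hFn⟩ := classInner_self_eq_sum_sq hFgen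
  have hc1 : cf' (oneIrr G) = 1 := int_cast_inj ((hFc _).symm.trans (hcoef _ 1 (irr_isClassFun _) fun _ _ => by
    simp [oneIrr]))
  have hcb : cf' b = 1 := int_cast_inj ((hFc _).symm.trans (hcoef _ 1 (irr_isClassFun _) fun x hx => by
    rw [hbx x hx]; simp))
  have hcθ : cf' θ = -1 := int_cast_inj ((hFc _).symm.trans (hcoef _ (-1) (irr_isClassFun _) fun x hx => by
    show theta G Ω b (x : G) = _
    rw [hθx x hx]; simp))
  have hθ1 : (θ : G → ℂ) 1 = (p : ℂ) := by
    show theta G Ω b 1 = _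
    rw [theta, h.fix_one, D.fdef]
    have : ((3 * p : ℕ) : ℂ) = ((1 + f + p : ℕ) : ℂ) := by congr 1; omega
    rw [this]; push_cast; ring
  have hbθ : b ≠ θ := fun e => by
    have h1 := congrArg (fun χ : IrrCharacter G => (χ : G → ℂ) 1) e
    simp only [D.fdef, hθ1, Nat.cast_inj] at h1
    omega
  have h1θ : oneIrr G ≠ θ := fun e => by
    have h1 := congrArg (fun χ : IrrCharacter G => (χ : G → ℂ) 1) e
    simp only [hθ1] at h1
    have h2 : ((1 : ℕ) : ℂ) = (p : ℂ) := by rw [Nat.cast_one]; exact h1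
    rw [Nat.cast_inj] at h2
    omega
  set R := Finset.univ \ ({oneIrr G, b, θ} : Finset (IrrCharacter G)) with hR
  have hsplit : ∀ T : IrrCharacter G → ℂ, ∑ χ, T χ = T (oneIrr G) + T b + T θ + ∑ χ ∈ R, T χ := by
    intro T
    rw [← Finset.sum_sdiff (Finset.subset_univ ({oneIrr G, b, θ} : Finset (IrrCharacter G))), ← hR,
      Finset.sum_insert (by simp [Ne.symm D.bne, h1θ]), Finset.sum_pair hbθ]
    ring
  have hR1 : ∑ χ ∈ R, cf' χ ^ 2 = 1 := by
    have h1 := hFn
    rw [hnorm, Int.cast_sum, hsplit, hc1, hcb, hcθ] at h1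
    apply int_cast_inj
    rw [Int.cast_sum]
    push_cast at h1 ⊢
    linear_combination -h1
  obtain ⟨ψ, hψR, hψ⟩ := Finset.exists_ne_zero_of_sum_ne_zero (hR1 ▸ one_ne_zero :
    ∑ χ ∈ R, cf' χ ^ 2 ≠ 0)
  rw [← Finset.add_sum_erase _ _ hψR] at hR1
  have hψ1 : cf' ψ ^ 2 = 1 := by
    have h1 : 0 ≤ ∑ χ ∈ R.erase ψ, cf' χ ^ 2 := Finset.sum_nonneg fun χ _ => sq_nonneg _
    have h2 := sq_nonneg (cf' ψ)
    omega
  have hrest : ∀ χ ∈ R.erase ψ, cf' χ = 0 := fun χ hχ =>
    pow_eq_zero_iff two_ne_zero |>.1 ((Finset.sum_eq_zero_iff_of_nonneg fun χ _ => sq_nonneg (cf' χ)).1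
      (by omega) χ hχ)
  have hsum4 : ∀ T : IrrCharacter G → ℂ,
      ∑ χ, (cf' χ : ℂ) * T χ = T (oneIrr G) + T b - T θ + (cf' ψ : ℂ) * T ψ := by
    intro T
    rw [hsplit, hc1, hcb, hcθ, ← Finset.add_sum_erase _ _ hψR,
      Finset.sum_eq_zero fun χ hχ => by rw [hrest χ hχ, Int.cast_zero, zero_mul]]
    push_cast; ring
  have hFexp : ∀ g, F g = ∑ χ : IrrCharacter G, (cf' χ : ℂ) * (χ : G → ℂ) g := fun g => by
    conv_lhs => rw [hFsum]
    rw [Finset.sum_apply]
    rfl
  have hFzero : ∀ g : G, ¬ 2 ^ k ∣ orderOf g → F g = 0 := by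
    intro g hg
    rw [hF, indFun, Finset.sum_eq_zero fun y _ => ?_, mul_zero]
    rcases em (y⁻¹ * g * y ∈ C) with hy | hy
    · rw [extendByZero_of_mem _ _ hy, hδv, if_neg]
      intro e
      refine hg ?_
      have h1 := orderOf_dvd_of_mem_zpowers (haPow _ e)
      have e3 : MulAut.conj y⁻¹ g = y⁻¹ * g * y := by simp
      rwa [Q.ha, show ((⟨_, hy⟩ : C) : G) = MulAut.conj y⁻¹ g from e3.symm, MulEquiv.orderOf_eq] at h1
    · rw [extendByZero_of_not_mem _ _ hy]
  have h2k : 4 ≤ 2 ^ k := le_trans (by norm_num) (Nat.pow_le_pow_right two_pos (show 2 ≤ k by omega))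
  have hF1 := hFzero 1 (by rw [orderOf_one]; intro hd; have := Nat.le_of_dvd one_pos hd; omega)
  have hFz := hFzero z (by rw [Fr.hz]; intro hd; have := Nat.le_of_dvd two_pos hd; omega)
  rw [hFexp, hsum4, D.fdef, hθ1, ← irr_charDegree_cast ψ] at hF1
  simp only [oneIrr] at hF1
  have hψd : cf' ψ = -1 ∧ (ψ : G → ℂ) 1 = (p : ℂ) := by
    rcases sq_eq_one_iff.1 hψ1 with e | e
    · exfalso
      rw [e, Int.cast_one, one_mul] at hF1
      have h1 : (((1 + f + charDegree (ψ : G → ℂ) : ℕ)) : ℂ) = (p : ℂ) := by push_cast; linear_combination hF1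
      rw [Nat.cast_inj] at h1
      omega
    · refine ⟨e, ?_⟩
      rw [e] at hF1
      push_cast at hF1
      rw [← irr_charDegree_cast ψ]
      have hfc : (f : ℂ) = 2 * (p : ℂ) - 1 := by
        have : ((f + 1 : ℕ) : ℂ) = ((2 * p : ℕ) : ℂ) := by rw [hf]
        push_cast at this
        linear_combination this
      linear_combination -hF1 + hfc
  have hφ := D.phi_two hf
  have hbt : (b : G → ℂ) t = 1 := by rw [D.phi, hφ, Int.cast_one]
  have hθt : (θ : G → ℂ) t = 1 := by
    show theta G Ω b t = 1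
    rw [theta, hbt, show fixChar G Ω t = ((3 : ℕ) : ℂ) from congrArg Nat.cast ((D.fix t D.ht).trans hr)]
    norm_num
  have hcon : IsConj t z := D.oneclass z Fr.hz
  rw [hFexp, hsum4, hψd.1] at hFz
  simp only [← classFun_eq_of_isConj (irr_isClassFun _) hcon] at hFz
  rw [hbt, hθt] at hFz
  simp only [oneIrr] at hFz
  push_cast at hFz
  have hψt : (ψ : G → ℂ) t = 1 := by linear_combination -hFz
  -- the class multiplication
  have hzero : ∑ χ : IrrCharacter G, (cf' χ : ℂ) * ((χ : G → ℂ) t * (χ : G → ℂ) t / (χ : G → ℂ) 1) = 0 := by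
    have h1 : ∀ χ : IrrCharacter G, (cf' χ : ℂ) =
        (Nat.card C : ℂ)⁻¹ * ∑ x : C, δ x * conj ((χ : G → ℂ) x) := fun χ => by
      rw [← hFc χ, hF, frobenius_reciprocity C δ (irr_isClassFun χ), classInner]
    simp only [h1, mul_assoc, ← Finset.mul_sum, Finset.sum_mul]
    rw [Finset.sum_comm, Finset.sum_eq_zero fun x _ => ?_, mul_zero]
    by_cases e : μ x = -1
    · have h2 := pair_formula t t (x : G)
      rw [hpair x e, Nat.cast_zero, zero_mul, zero_mul, eq_comm, mul_eq_zero] at h2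
      have h3 := h2.resolve_left (Nat.cast_ne_zero.2 Nat.card_pos.ne')
      rw [← Finset.mul_sum]
      refine mul_eq_zero_of_right _ ?_
      rw [← h3]
      exact Finset.sum_congr rfl fun χ _ => by ring
    · exact Finset.sum_eq_zero fun χ _ => by rw [hδv, if_neg e, zero_mul]
  rw [hsum4, hψd.1, hbt, hθt, hψt, D.fdef, hθ1, hψd.2] at hzero
  simp only [oneIrr] at hzero
  push_cast at hzero
  have hfne : (f : ℂ) ≠ 0 := Nat.cast_ne_zero.2 (by omega)
  have hpne : (p : ℂ) ≠ 0 := Nat.cast_ne_zero.2 hp.ne_zero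
  field_simp at hzero
  have h6 : (f : ℤ) * p + p - 2 * f = 0 := int_cast_inj (by
    push_cast
    linear_combination hzero)
  have h7 : (f : ℤ) = 2 * p - 1 := by omega
  rw [h7] at h6
  nlinarith

end CfsgLib.DegreeThreeP
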