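import Cfsg.Agent.Lib.DegreeThreeP.Local
import Cfsg.Agent.Lib.DegreeThreeP.Arith
import Cfsg.Agent.Lib.DegreeThreeP.QD
import Cfsg.Agent.S0222
import Cfsg.Agent.Lib.StrongEmbDim.Models
import Cfsg.Agent.Lib.DicksonFull.Subgroups
import Cfsg.Agent.Lib.MaxSub.SU3Max.Cubic.Main

/-!
# Groups of degree `3p`: no strongly embedded subgroup
-/

set_option autoImplicit false
set_option linter.style.haveILetI false
set_option linter.unusedSectionVars false

namespace CfsgLib.DegreeThreeP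

open Cfsg MulAction
open scoped Pointwise

universe u v

/-- Sylow subgroups of isomorphic groups have the same order. -/
theorem card_sylow_congr {A B : Type*} [Group A] [Group B] [Finite A] [Finite B] {l : ℕ} [Fact l.Prime]
    (e : A ≃* B) (S : Sylow l A) (T : Sylow l B) :
    Nat.card (S : Subgroup A) = Nat.card (T : Subgroup B) := by
  rw [S.card_eq_multiplicity, T.card_eq_multiplicity, Nat.card_congr e.toEquiv]

variable {G : Type u} [Group G] [Fintype G] {Ω : Type v} [MulAction G Ω] [Finite Ω]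
  {p : ℕ} [Fact p.Prime] {P : Sylow p G} {t : G} {b η : IrrCharacter G} {f r : ℕ} {φ : ℤ}

theorem Hyp.degree_dvd (h : Hyp G Ω P) : 3 * p ∣ Nat.card G := by
  haveI := h.trans
  haveI : Nonempty Ω := (Nat.card_pos_iff.1 (by rw [h.hΩ]; have := h.hp5; omega)).1
  obtain ⟨x⟩ := ‹Nonempty Ω›
  rw [← h.hΩ, ← MulAction.index_stabilizer_of_transitive G x]
  exact Subgroup.index_dvd_card _

theorem two_part_fix_one (D : Deg G Ω P t b η f r φ) (hf : f + 1 = 3 * p) (hr : r = 1) (S : Sylow 2 G) :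
    Nat.card (S : Subgroup G) ∣ f ∧
      (Nat.card G : ℤ) * f = p * (Nat.card (Subgroup.centralizer ({t} : Set G)) : ℤ) ^ 2 * ((f : ℤ) - 1) := by
  have hp : p.Prime := Fact.out
  have := hp.two_le
  have hp4 : p % 4 = 3 := by rcases D.rmod with ⟨-, h1⟩ | ⟨h1, -⟩ <;> omega
  have h1 := D.order
  rw [D.phi_one hf, hr] at h1
  have h2 : (Nat.card G : ℤ) * f = p * (Nat.card (Subgroup.centralizer ({t} : Set G)) : ℤ) ^ 2 * ((f : ℤ) - 1) := by
    refine mul_right_cancel₀ (show (f : ℤ) ≠ 0 by omega) ?_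
    push_cast at h1
    linear_combination h1
  refine ⟨?_, h2⟩
  obtain ⟨s, g, d, hg, hd, hS, hG, hc⟩ := sylow_parts D S
  obtain ⟨a, o, ho, rfl⟩ := exists_two_part (show f ≠ 0 by omega)
  rw [hG, hc, show ((2 ^ a * o : ℕ) : ℤ) - 1 = ((2 ^ a * o - 1 : ℕ) : ℤ) by omega] at h2
  have h3 : 2 ^ (s + a) * (g * o) = 2 ^ (s + s) * (p * d ^ 2 * (2 ^ a * o - 1)) := by
    apply Nat.cast_injective (R := ℤ)
    generalize (2 ^ a * o - 1 : ℕ) = w at h2
    push_cast at h2 ⊢
    rw [pow_add, pow_add]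
    linear_combination h2
  have hodd : Odd (2 ^ a * o - 1) := Nat.odd_iff.2 (by omega)
  have := two_part (hg.mul ho) (((hp.odd_of_ne_two (by omega)).mul hd.pow).mul hodd) h3
  rw [hS, show s = a by omega]
  exact dvd_mul_right _ _

theorem no_psl_even (h : Hyp G Ω P) (D : Deg G Ω P t b η f r φ) (hf : f + 1 = 2 * p ∨ f + 1 = 3 * p)
    {F : Type} [Field F] [Fintype F] [CharP F 2] (h4 : 4 ≤ Fintype.card F)
    (e : G ≃* Matrix.ProjectiveSpecialLinearGroup (Fin 2) F) : False := by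
  haveI : Fact (Nat.Prime 2) := ⟨Nat.prime_two⟩
  have hp : p.Prime := Fact.out
  have hp5 := h.hp5
  obtain ⟨n, -, hn⟩ := FiniteField.card F 2
  set q := Fintype.card F with hqdef
  have hn2 : 2 ≤ (n : ℕ) := by
    by_contra hlt
    have := Nat.pow_le_pow_right (show 0 < 2 by norm_num) (show (n : ℕ) ≤ 1 by omega)
    omega
  obtain ⟨S⟩ : Nonempty (Sylow 2 G) := inferInstance
  obtain ⟨T⟩ : Nonempty (Sylow 2 (Matrix.ProjectiveSpecialLinearGroup (Fin 2) F)) := inferInstance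
  have hSq : Nat.card (S : Subgroup G) = q := by
    rw [card_sylow_congr e S T, (StrongEmbDim.data_psl hn2 hn).card_sylow T, hn]
  have hqeven : q % 2 = 0 := by
    rw [hn, Nat.pow_mod]
    simp
  have hG : Nat.card G = q * (q ^ 2 - 1) := by
    rw [Nat.card_congr e.toEquiv, ← DicksonFull.card_psl (F := F)]
    rcases DicksonFull.gcd_cases (F := F) 2 with ⟨h1, -⟩ | ⟨-, h1⟩
    · rw [← hqdef, h1, one_mul]
    · omega
  have hd : p ∣ q * (q ^ 2 - 1) := hG ▸ (dvd_mul_left p 3).trans h.degree_dvd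
  rcases hf with hf | hf
  · obtain ⟨k, o, ho, hk, hS⟩ := parts_two D hf S
    rw [hSq] at hS
    rcases D.rmod with ⟨-, h1⟩ | ⟨-, h1⟩
    · have hk1 : k ≤ 1 := by
        by_contra hlt
        have : 4 ∣ 2 ^ k * o := Dvd.dvd.mul_right (show 2 ^ 2 ∣ 2 ^ k from pow_dvd_pow 2 (by omega)) _
        omega
      interval_cases k
      · omega
      · rw [hS] at hd
        norm_num at hd
        have := Nat.le_of_dvd (by norm_num) hd
        interval_cases p <;> norm_num at *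
    · have hk2 : 2 ≤ k := by
        by_contra hlt
        obtain ⟨w, rfl⟩ := ho
        interval_cases k <;> omega
      exact psl_even_rank hp hk2 ho hk hS hd
  · rcases D.rmod with ⟨hr, -⟩ | ⟨hr, h1⟩
    · obtain ⟨⟨w, hw⟩, h2⟩ := two_part_fix_one D hf hr S
      rw [hSq] at hw
      refine psl_even_fix_one hp hp5 (c := Nat.card (Subgroup.centralizer ({t} : Set G))) hn h4
        ⟨w, by omega⟩ hd ?_
      rw [hG, show (f : ℤ) = 3 * p - 1 by omega] at h2
      have hq1 : 1 ≤ q ^ 2 := Nat.one_le_pow _ _ (by omega)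
      push_cast [Nat.cast_sub hq1] at h2
      linear_combination -h2
    · obtain ⟨k, o, s, ho, hk, hS, hks⟩ := parts_three D hf hr S
      rw [hSq] at hS
      have hk2 : 2 ≤ k := by
        by_contra hlt
        obtain ⟨w, rfl⟩ := ho
        interval_cases k <;> omega
      refine psl_even_two_trans hp hk2 ho hk hn ?_ hd
      rw [hS, ← pow_succ', ← pow_add]
      congr 1; omega

theorem no_suzuki (h : Hyp G Ω P) (hS : Cfsg.IsSuzuki G) : False := by
  obtain ⟨-, m, -, hG⟩ := hS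
  have h3 : 3 ∣ Nat.card G := (dvd_mul_right 3 p).trans h.degree_dvd
  rw [hG] at h3
  set q := 2 ^ (2 * m + 1) with hq
  have hq3 : q % 3 = 2 := by
    rw [hq, pow_succ, pow_mul, Nat.mul_mod, Nat.pow_mod]
    norm_num
  clear_value q
  have hsub : (q - 1) % 3 = 1 := by omega
  have h4 := Nat.mod_eq_zero_of_dvd h3
  rw [Nat.mul_mod, Nat.mul_mod (q ^ 2), Nat.add_mod, Nat.pow_mod, hq3, hsub] at h4
  norm_num at h4

theorem no_psu (h : Hyp G Ω P) (D : Deg G Ω P t b η f r φ) (hf : f + 1 = 2 * p ∨ f + 1 = 3 * p)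
    {F : Type} [Field F] [Fintype F] {q : ℕ} (hF : Fintype.card F = q ^ 2) (hqe : Even q) (h4 : 4 ≤ q)
    (e : G ≃* Cfsg.PSU 3 F q) : False := by
  haveI : Fact (Nat.Prime 2) := ⟨Nat.prime_two⟩
  have hp : p.Prime := Fact.out
  have hp5 := h.hp5
  obtain ⟨n, hn⟩ : ∃ n, q = 2 ^ n := by
    obtain ⟨l, hl⟩ := CharP.exists F
    obtain ⟨m, hlp, hm⟩ := FiniteField.card F l
    have h2 : 2 ∣ l ^ (m : ℕ) := hm ▸ hF ▸ dvd_pow (even_iff_two_dvd.1 hqe) two_ne_zero
    have h2l := (Nat.prime_dvd_prime_iff_eq Nat.prime_two hlp).1 (Nat.prime_two.dvd_of_dvd_pow h2)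
    obtain ⟨i, -, hi⟩ := (Nat.dvd_prime_pow Nat.prime_two).1
      (show q ∣ 2 ^ (m : ℕ) by rw [h2l, ← hm, hF]; exact dvd_pow_self q two_ne_zero)
    exact ⟨i, hi⟩
  have hn2 : 2 ≤ n := by
    by_contra hlt
    have := Nat.pow_le_pow_right (show 0 < 2 by norm_num) (show n ≤ 1 by omega)
    omega
  subst hn
  obtain ⟨S⟩ : Nonempty (Sylow 2 G) := inferInstance
  obtain ⟨T⟩ : Nonempty (Sylow 2 (Cfsg.PSU 3 F (2 ^ n))) := inferInstance
  have hSq : Nat.card (S : Subgroup G) = 2 ^ (3 * n) := by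
    rw [card_sylow_congr e S T, (StrongEmbDim.data_psu hn2 hF).card_sylow T]
  have hp2 : ¬ p ∣ 2 ^ n := fun hd => by
    have := Nat.le_of_dvd two_pos (hp.dvd_of_dvd_pow hd)
    omega
  have hd : p ∣ 2 ^ n * ((2 ^ n) ^ 2 - 1) * ((2 ^ n) ^ 3 + 1) := by
    have h1 : p ∣ (2 ^ n) ^ 3 * ((2 ^ n) ^ 2 - 1) * ((2 ^ n) ^ 3 + 1) := by
      rw [← MaxSub.SU3Max.Cubic.card_SU3 hF (by omega)]
      refine ((dvd_mul_left p 3).trans h.degree_dvd).trans ?_
      rw [Nat.card_congr e.toEquiv]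
      exact Subgroup.card_quotient_dvd_card _
    rcases hp.dvd_mul.1 h1 with h2 | h2
    · rcases hp.dvd_mul.1 h2 with h3 | h3
      · exact absurd (hp.dvd_of_dvd_pow h3) hp2
      · exact Dvd.dvd.mul_right (h3.mul_left _) _
    · exact h2.mul_left _
  have hpow : (2 ^ n) ^ 3 = 2 ^ (3 * n) := by rw [← pow_mul, mul_comm]
  rcases hf with hf | hf
  · obtain ⟨k, o, ho, hk, hS⟩ := parts_two D hf S
    rw [hSq, ← hpow, pow_succ _ k] at hS
    have : 2 ^ k * 1 ≤ 2 ^ k * o := Nat.mul_le_mul_left _ ho.pos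
    exact psu_small hp h4 hd hp2 (Or.inl (by omega))
  · rcases D.rmod with ⟨hr, -⟩ | ⟨hr, -⟩
    · obtain ⟨hdv, -⟩ := two_part_fix_one D hf hr S
      have := Nat.le_of_dvd (by omega) hdv
      exact psu_small hp h4 hd hp2 (Or.inr (by rw [hpow]; omega))
    · obtain ⟨k, o, s, ho, hk, hS, hks⟩ := parts_three D hf hr S
      have := Nat.pow_right_injective le_rfl (hS.symm.trans hSq)
      exact psu_two_trans hp hk ho.pos hn2 rfl (by omega) hd

theorem not_stronglyEmbedded (h : Hyp G Ω P) (D : Deg G Ω P t b η f r φ)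
    (hf : f + 1 = 2 * p ∨ f + 1 = 3 * p) (H : Subgroup G) : ¬ IsStronglyEmbedded H := by
  intro hH
  haveI := h.simple
  have hna : ∃ a b : G, a * b ≠ b * a := by
    have := h.noncomm
    push Not at this
    exact this
  rcases Cfsg.Agent.S0222.result hna H hH with ⟨F, _, _, hc, h4, ⟨e⟩⟩ | hS | ⟨F, _, _, q, hF, hq, h4, ⟨e⟩⟩
  · haveI := hc
    exact no_psl_even h D hf h4 e
  · exact no_suzuki h hS
  · exact no_psu h D hf hF hq h4 e

end CfsgLib.DegreeThreeP
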