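import Cfsg.Agent.Lib.SmallSylow.Block
import Cfsg.Agent.Lib.CharTheory.ProjExt
import Cfsg.Agent.Lib.Pyramidal.DetInvol

/-!
# Groups of degree `3p`: general character lemmas
-/

set_option autoImplicit false
set_option linter.style.haveILetI false
set_option linter.unusedSectionVars false

namespace CfsgLib.DegreeThreeP

open Cfsg CfsgLib.Blocks CfsgLib.CharTheory
open scoped ComplexConjugate

universe u

variable {G : Type u} [Group G] [Finite G]

theorem trace_of_idem {V : Type*} [AddCommGroup V] [Module ℂ V] [FiniteDimensional ℂ V] (A : Module.End ℂ V)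
    (h : A * A = A) : ∃ a : ℕ, LinearMap.trace ℂ V A = a :=
  ⟨_, (LinearMap.IsProj.trace (p := LinearMap.range A) ⟨fun v => LinearMap.mem_range_self A v, by
    rintro _ ⟨v, rfl⟩
    exact LinearMap.congr_fun h v⟩)⟩

/-- In a perfect group an involution has an even number of eigenvalues `-1`. -/
theorem char_invol (hperf : commutator G = ⊤) {χ : G → ℂ} (hχ : IsCharacter G χ) {t : G} (ht : t * t = 1) :
    ∃ a b : ℕ, Even b ∧ χ 1 = (a : ℂ) + b ∧ χ t = (a : ℂ) - b := by
  obtain ⟨n, ρ, rfl⟩ := hχ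
  set e : Module.End ℂ (Fin n → ℂ) := ρ t with he
  have hee : e * e = 1 := by rw [he, ← map_mul, ht, map_one]
  have hev : ∀ x, e (e x) = x := fun x => LinearMap.congr_fun hee x
  set W := LinearMap.ker (e + LinearMap.id) with hW
  have hdet : LinearMap.det e = 1 := by
    have h1 : detHom ρ t = 1 :=
      MonoidHom.mem_ker.1 (Abelianization.commutator_subset_ker (detHom ρ) (hperf ▸ Subgroup.mem_top t))
    rw [he, ← coe_detHom, h1, Units.val_one]
  rw [Pyramidal.det_involution two_ne_zero e hev] at hdet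
  have heven : Even (Module.finrank ℂ W) := (neg_one_pow_eq_one_iff_even (by norm_num)).1 hdet
  have hproj : LinearMap.IsProj W ((2 : ℂ)⁻¹ • (1 - e)) := by
    refine ⟨fun v => ?_, fun v hv => ?_⟩
    · rw [hW, LinearMap.mem_ker, LinearMap.add_apply, LinearMap.id_apply, LinearMap.smul_apply,
        LinearMap.sub_apply, Module.End.one_apply, map_smul, map_sub, hev, ← smul_add]
      simp
    · rw [hW, LinearMap.mem_ker, LinearMap.add_apply, LinearMap.id_apply, add_eq_zero_iff_eq_neg] at hv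
      rw [LinearMap.smul_apply, LinearMap.sub_apply, Module.End.one_apply, hv, sub_neg_eq_add, ← two_smul ℂ v,
        smul_smul, inv_mul_cancel₀ two_ne_zero, one_smul]
  have htr := hproj.trace
  rw [map_smul, map_sub, LinearMap.trace_one, Module.finrank_fin_fun, smul_eq_mul] at htr
  have hle : Module.finrank ℂ W ≤ n := (Submodule.finrank_le W).trans (Module.finrank_fin_fun (n := n) ℂ).le
  refine ⟨n - Module.finrank ℂ W, Module.finrank ℂ W, heven, ?_, ?_⟩
  · rw [Representation.char_one, Module.finrank_fin_fun, ← Nat.cast_add, Nat.sub_add_cancel hle]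
  · rw [Nat.cast_sub hle]
    show LinearMap.trace ℂ _ (ρ t) = _
    rw [← he]
    linear_combination (-2) * htr

variable {p : ℕ}

theorem conj_reflection {P : Subgroup G} (hodd : Odd p) (hPp : ∀ x ∈ P, x ^ p = 1) {t : G}
    (hinv : ∀ x ∈ P, t * x * t⁻¹ = x⁻¹) {x : G} (hx : x ∈ P) : IsConj t (t * x) := by
  obtain ⟨m, hm⟩ := hodd
  set y := x ^ (m + 1) with hy
  have hyy : y * y = x := by
    rw [hy, ← pow_add, show m + 1 + (m + 1) = p + 1 by omega, pow_succ, hPp x hx, one_mul]
  have h2 := hinv y (pow_mem hx _)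
  have h3 : y⁻¹ * t = t * y := by rw [← h2]; group
  refine isConj_iff.2 ⟨y⁻¹, ?_⟩
  rw [inv_inv, h3, mul_assoc, hyy]

/-- The value at an inverting involution of a character which is a multiple of the regular character
on a subgroup of odd order. -/
theorem refl_bound [Fintype G] {θ : G → ℂ} (hθ : IsCharacter G θ) {P : Subgroup G} (hodd : Odd p) (hP : Nat.card P = p)
    {t : G} (ht : t * t = 1) (hinv : ∀ x ∈ P, t * x * t⁻¹ = x⁻¹)
    (h0 : ∀ x ∈ P, x ≠ 1 → θ x = 0) {k : ℕ} (h1 : θ 1 = ((p * k : ℕ) : ℂ)) :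
    ∃ a b : ℕ, a + b = k ∧ θ t = (a : ℂ) - b := by
  classical
  obtain ⟨n, ρ, rfl⟩ := hθ
  have hp0 : (p : ℂ) ≠ 0 := Nat.cast_ne_zero.2 (by obtain ⟨m, hm⟩ := hodd; omega)
  have hPp : ∀ x ∈ P, x ^ p = 1 := fun x hx => by
    have := pow_card_eq_one' (G := P) (x := ⟨x, hx⟩)
    rw [hP] at this
    exact congrArg Subtype.val this
  set e : Module.End ℂ (Fin n → ℂ) := ρ t with he
  set U : Module.End ℂ (Fin n → ℂ) := ∑ x : P, ρ (x : G) with hU
  set S : Module.End ℂ (Fin n → ℂ) := (p : ℂ)⁻¹ • U with hS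
  have hxU : ∀ y : P, ρ (y : G) * U = U := fun y => by
    rw [hU, Finset.mul_sum]
    refine Fintype.sum_equiv (Equiv.mulLeft y) _ _ fun x => ?_
    rw [← map_mul]; rfl
  have hSS : S * S = S := by
    rw [hS, smul_mul_assoc, mul_smul_comm]
    conv_lhs => enter [2, 2]; rw [hU, Finset.sum_mul]
    rw [← hU, Finset.sum_congr rfl fun y _ => hxU y, Finset.sum_const, Finset.card_univ, ← Nat.card_eq_fintype_card,
      hP, ← Nat.cast_smul_eq_nsmul ℂ, smul_smul, smul_smul, mul_assoc, inv_mul_cancel₀ hp0, mul_one]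
  have heU : e * U = U * e := by
    rw [hU, Finset.mul_sum, Finset.sum_mul]
    refine Fintype.sum_equiv (Equiv.inv P) _ _ fun x => ?_
    rw [he, ← map_mul, ← map_mul]
    congr 1
    show t * (x : G) = ((x⁻¹ : P) : G) * t
    rw [Subgroup.coe_inv, ← hinv x x.2]; group
  have hee : e * e = 1 := by rw [he, ← map_mul, ht, map_one]
  have heS : e * S = S * e := by rw [hS, mul_smul_comm, smul_mul_assoc, heU]
  have hA : ∀ s : ℂ, s * s = 1 →
      ((2 : ℂ)⁻¹ • (S + s • (e * S))) * ((2 : ℂ)⁻¹ • (S + s • (e * S))) = (2 : ℂ)⁻¹ • (S + s • (e * S)) := by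
    intro s hs
    have h3 : (e * S) * (e * S) = S := by
      rw [mul_assoc, ← mul_assoc S e S, ← heS, mul_assoc e S S, hSS, ← mul_assoc, hee, one_mul]
    have h4 : S * (e * S) = e * S := by rw [← mul_assoc, ← heS, mul_assoc, hSS]
    have h5 : (e * S) * S = e * S := by rw [mul_assoc, hSS]
    simp only [smul_mul_assoc, mul_smul_comm, mul_add, add_mul, h3, h4, h5, hSS, smul_add, smul_smul]
    match_scalars <;> field_simp <;> first | ring1 | linear_combination hs | linear_combination -hs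
  clear_value S
  obtain ⟨a, ha⟩ := trace_of_idem _ (hA 1 (one_mul 1))
  obtain ⟨b, hb⟩ := trace_of_idem _ (hA (-1) (by norm_num))
  have hx1 : ∀ x : P, x ≠ 1 → (x : G) ≠ 1 := fun x hx e => hx (Subtype.ext e)
  have htS : LinearMap.trace ℂ _ S = (k : ℂ) := by
    rw [hS, map_smul, hU, map_sum]
    change (p : ℂ)⁻¹ • ∑ x : P, ρ.character (x : G) = _
    rw [Finset.sum_eq_single (1 : P) (fun x _ hx => h0 x x.2 (hx1 x hx))
      (fun h => absurd (Finset.mem_univ _) h)]
    rw [Subgroup.coe_one, h1, smul_eq_mul, Nat.cast_mul, inv_mul_cancel_left₀ hp0]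
  have htE : LinearMap.trace ℂ _ (e * S) = ρ.character t := by
    rw [hS, mul_smul_comm, map_smul, hU, Finset.mul_sum, map_sum]
    have hterm : ∀ x : P, LinearMap.trace ℂ _ (e * ρ (x : G)) = ρ.character t := fun x => by
      obtain ⟨c, hc⟩ := isConj_iff.1 (conj_reflection hodd hPp hinv x.2)
      rw [he, ← map_mul, ← hc]
      exact ρ.char_conj t c
    simp only [hterm]
    rw [Finset.sum_const, Finset.card_univ, ← Nat.card_eq_fintype_card, hP, nsmul_eq_mul, smul_eq_mul,
      inv_mul_cancel_left₀ hp0]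
  rw [map_smul, map_add, map_smul, htS, htE, smul_eq_mul, smul_eq_mul] at ha hb
  refine ⟨a, b, ?_, ?_⟩
  · apply Nat.cast_injective (R := ℂ)
    push_cast
    linear_combination -ha - hb
  · linear_combination ha - hb

variable [Fintype G] [Fact p.Prime]

/-- A sum over the `p`-singular elements. -/
theorem sum_singular (P : Sylow p G) (hP : Nat.card P = p)
    (hC : Subgroup.centralizer ((P : Subgroup G) : Set G) = (P : Subgroup G)) {F : G → ℂ}
    (hF : IsClassFunction G F) (h0 : ∀ g : G, ¬ p ∣ orderOf g → F g = 0) [Fintype (P : Subgroup G)] :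
    ∑ g : G, F g = (Nat.card (Sylow p G) : ℂ) * ∑ x : (P : Subgroup G), F x := by
  classical
  have hp : p.Prime := Fact.out
  haveI : Fintype (Sylow p G) := Fintype.ofFinite _
  have hQ : ∀ Q : Sylow p G, Nat.card Q = p := fun Q => by
    exact (Nat.card_congr (Sylow.equiv Q P).toEquiv).trans hP
  have hCQ : ∀ Q : Sylow p G, ∀ y ∈ (Q : Subgroup G), y ≠ 1 → ∀ g, g * y = y * g → g ∈ (Q : Subgroup G) := by
    intro Q y hy hy1 g hg
    obtain ⟨c, rfl⟩ := MulAction.exists_smul_eq G P Q
    rw [Sylow.coe_subgroup_smul] at hy ⊢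
    obtain ⟨x, hx, rfl⟩ := hy
    refine ⟨c⁻¹ * g * c, ?_, show c * (c⁻¹ * g * c) * c⁻¹ = g by group⟩
    have hx1 : x ≠ 1 := fun e => hy1 (by rw [e]; exact map_one (MulAut.conj c))
    have h := Subgroup.mem_centralizer_singleton_iff.2 (show c⁻¹ * g * c * x = x * (c⁻¹ * g * c) by
      have e : g * (c * x * c⁻¹) = c * x * c⁻¹ * g := hg
      calc c⁻¹ * g * c * x = c⁻¹ * (g * (c * x * c⁻¹)) * c := by group
        _ = c⁻¹ * (c * x * c⁻¹ * g) * c := by rw [e]
        _ = x * (c⁻¹ * g * c) := by group)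
    rwa [SmallSylow.centralizer_eq P hP hx hx1, hC] at h
  set S : Sylow p G → Finset G := fun Q => Finset.univ.filter fun g => g ∈ (Q : Subgroup G) ∧ g ≠ 1 with hS
  have hdisj : ((Finset.univ : Finset (Sylow p G)) : Set (Sylow p G)).PairwiseDisjoint S := by
    intro Q _ R _ hne
    rw [Function.onFun, Finset.disjoint_left]
    intro g hg hg'
    simp only [hS, Finset.mem_filter, Finset.mem_univ, true_and] at hg hg'
    refine hne (Sylow.ext (le_antisymm ?_ ?_))
    · intro y hy
      exact hCQ R g hg'.1 hg'.2 y ((DefectOne.setup_sylow Q (hQ Q)).comm hy hg.1)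
    · intro y hy
      exact hCQ Q g hg.1 hg.2 y ((DefectOne.setup_sylow R (hQ R)).comm hy hg'.1)
  have hcov : Finset.univ.filter (fun g : G => p ∣ orderOf g) = Finset.univ.biUnion S := by
    ext g
    simp only [hS, Finset.mem_biUnion, Finset.mem_filter, Finset.mem_univ, true_and]
    constructor
    · intro hg
      obtain ⟨m, hm⟩ := hg
      have hy : orderOf (g ^ m) = p := by
        rw [orderOf_pow' _ (fun e => by simp [e, (orderOf_pos g).ne'] at hm), hm,
          Nat.gcd_eq_right (dvd_mul_left m p), Nat.mul_div_cancel]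
        exact Nat.pos_of_ne_zero fun e => by simp [e, (orderOf_pos g).ne'] at hm
      obtain ⟨Q, hQy⟩ := (IsPGroup.of_card (show Nat.card (Subgroup.zpowers (g ^ m)) = p ^ 1 by
        rw [Nat.card_zpowers, hy, pow_one])).exists_le_sylow
      have hy1 : g ^ m ≠ 1 := fun e => by rw [e, orderOf_one] at hy; exact hp.ne_one hy.symm
      exact ⟨Q, hCQ Q _ (hQy (Subgroup.mem_zpowers _)) hy1 g (by rw [← pow_succ', ← pow_succ]),
        fun e => hy1 (by rw [e, one_pow])⟩
    · rintro ⟨Q, hgQ, hg1⟩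
      rw [SmallSylow.orderOf_mem Q (hQ Q) hgQ hg1]
  have h1 : ∑ g : G, F g = ∑ g ∈ Finset.univ.filter (fun g : G => p ∣ orderOf g), F g :=
    (Finset.sum_subset (Finset.subset_univ _) fun g _ hg => h0 g (by simpa using hg)).symm
  rw [h1, hcov, Finset.sum_biUnion hdisj]
  have hF1 : F 1 = 0 := h0 1 (by rw [orderOf_one]; exact hp.not_dvd_one)
  have hone : ∀ Q : Sylow p G, ∑ g ∈ S Q, F g = ∑ x : (P : Subgroup G), F x := by
    intro Q
    obtain ⟨c, rfl⟩ := MulAction.exists_smul_eq G P Q
    rw [← Finset.sum_subset (Finset.subset_univ (Finset.univ.filter fun x : (P : Subgroup G) => x ≠ 1))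
      (fun x _ hx => by
        have : x = 1 := by simpa using hx
        rw [this, Subgroup.coe_one, hF1])]
    symm
    refine Finset.sum_bij (fun x _ => c * (x : G) * c⁻¹) (fun x hx => ?_) (fun x _ y _ e => ?_) (fun g hg => ?_)
      fun x _ => (hF (x : G) c).symm
    · simp only [hS, Finset.mem_filter, Finset.mem_univ, true_and, Sylow.coe_subgroup_smul] at hx ⊢
      exact ⟨⟨x, x.2, rfl⟩, fun e => hx (Subtype.ext (conj_eq_one_iff.1 e))⟩
    · exact Subtype.ext (mul_left_cancel (mul_right_cancel e))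
    · simp only [hS, Finset.mem_filter, Finset.mem_univ, true_and, Sylow.coe_subgroup_smul] at hg
      obtain ⟨⟨x, hx, rfl⟩, hg1⟩ := hg
      exact ⟨⟨x, hx⟩, Finset.mem_filter.2 ⟨Finset.mem_univ _, fun e => hg1 (by
        rw [show x = 1 from congrArg Subtype.val e]; exact map_one (MulAut.conj c))⟩, rfl⟩
  rw [Finset.sum_congr rfl fun Q _ => hone Q, Finset.sum_const, Finset.card_univ, ← Nat.card_eq_fintype_card,
    nsmul_eq_mul]

/-- The sign of an element of even order all whose nontrivial powers move the same points. -/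
theorem sign_semiregular {α : Type*} [Fintype α] [DecidableEq α] {σ : Equiv.Perm α} {l : ℕ}
    (h1 : σ ^ 2 ^ (l + 1) = 1) (h2 : ∀ a, (σ ^ 2 ^ l) a = a → σ a = a) :
    Equiv.Perm.sign σ =
      (-1) ^ ((Fintype.card α - Fintype.card (Function.fixedPoints σ)) / 2 ^ (l + 1)) := by
  have hrep : σ.cycleType = Multiset.replicate σ.cycleType.card (2 ^ (l + 1)) := by
    refine Multiset.eq_replicate_card.2 fun n hn => ?_
    obtain ⟨i, hi, rfl⟩ := (Nat.dvd_prime_pow Nat.prime_two).1
      ((Equiv.Perm.dvd_of_mem_cycleType hn).trans (orderOf_dvd_of_pow_eq_one h1))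
    by_contra hne
    have hil : i ≤ l := by
      by_contra hlt
      exact hne (by rw [show i = l + 1 by omega])
    rw [Equiv.Perm.cycleType_def, Multiset.mem_map] at hn
    obtain ⟨c, hc, hcard⟩ := hn
    obtain ⟨hcyc, hval⟩ := Equiv.Perm.mem_cycleFactorsFinset_iff.1 hc
    obtain ⟨a, ha⟩ := hcyc.nonempty_support
    have ha' : c a ≠ a := Equiv.Perm.mem_support.1 ha
    have hpow : ∀ j, (σ ^ j) a = (c ^ j) a := by
      intro j
      induction j with
      | zero => rfl
      | succ j ih =>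
        rw [pow_succ', pow_succ', Equiv.Perm.mul_apply, Equiv.Perm.mul_apply, ih]
        exact (hval _ (Equiv.Perm.pow_apply_mem_support.2 ha)).symm
    have hcl : c ^ 2 ^ l = 1 := orderOf_dvd_iff_pow_eq_one.1 (by
      rw [hcyc.orderOf, show c.support.card = 2 ^ i from hcard]
      exact pow_dvd_pow 2 hil)
    exact ha' ((hval a ha).trans (h2 a (by rw [hpow, hcl, Equiv.Perm.one_apply])))
  rw [Equiv.Perm.sign_of_cycleType_eq_replicate (by positivity) hrep,
    if_neg (Nat.not_odd_iff_even.2 (Nat.even_pow.2 ⟨even_two, Nat.succ_ne_zero l⟩))]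

end CfsgLib.DegreeThreeP
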