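import Cfsg.Agent.Lib.DegreeThreeP.Basic
import Cfsg.Agent.Lib.CharTheory.Clifford
import Cfsg.Agent.Lib.Blocks.Vanishing

/-!
# Groups of degree `3p`: the degrees of the principal block and the order formula
-/

set_option autoImplicit false
set_option linter.style.haveILetI false
set_option linter.unusedSectionVars false

namespace CfsgLib.DegreeThreeP

open Cfsg CfsgLib.Blocks CfsgLib.CharTheory MulAction
open CfsgLib.SmallPartitionChars (fixChar)
open scoped ComplexConjugate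

universe u v

variable {G : Type u} [Group G] [Fintype G] {Ω : Type v} [MulAction G Ω] [Finite Ω] {p : ℕ} [Fact p.Prime]
  {P : Sylow p G}

/-- The rest of the permutation character. -/
noncomputable def theta (G : Type u) [Group G] [Fintype G] (Ω : Type v) [MulAction G Ω]
    (b : IrrCharacter G) : G → ℂ := fun g => fixChar G Ω g - 1 - (b : G → ℂ) g

/-- The outcome of the counting. -/
structure Deg (G : Type u) [Group G] [Fintype G] (Ω : Type v) [MulAction G Ω] {p : ℕ} [Fact p.Prime]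
    (P : Sylow p G) (t : G) (b η : IrrCharacter G) (f r : ℕ) (φ : ℤ) : Prop where
  ht : orderOf t = 2
  hinv : ∀ x ∈ (P : Subgroup G), t * x * t⁻¹ = x⁻¹
  oneclass : ∀ u : G, orderOf u = 2 → IsConj t u
  fdef : (b : G → ℂ) 1 = (f : ℂ)
  bne : b ≠ oneIrr G
  fcases : f + 1 = p ∨ f + 1 = 2 * p ∨ f + 1 = 3 * p
  phi : (b : G → ℂ) t = (φ : ℂ)
  rel : ∀ g : G, ¬ p ∣ orderOf g → (η : G → ℂ) g = (b : G → ℂ) g - 1
  theta_char : IsCharacter G (theta G Ω b)
  theta_irr : f + 1 = 2 * p → IsIrrCharacter G (theta G Ω b)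
  order : (Nat.card G : ℤ) * ((f : ℤ) - φ) ^ 2 =
    p * (Nat.card (Subgroup.centralizer ({t} : Set G)) : ℤ) ^ 2 * f * ((f : ℤ) - 1)
  fix : ∀ u : G, orderOf u = 2 → Nat.card (fixedBy Ω u) = r
  rmod : (r = 1 ∧ p % 4 = 3) ∨ (r = 3 ∧ p % 4 = 1)
  phi_one : f + 1 = 3 * p → φ = (r : ℤ) - 1
  phi_two : f + 1 = 2 * p → φ = 1
  phi_five : f + 1 = p → p = 5 → φ = 0

theorem int_cast_inj {a b : ℤ} (h : (a : ℂ) = (b : ℂ)) : a = b := Int.cast_injective h

/-- The weighted sum of class multiplication coefficients. -/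
theorem pair_formula (g h k : G) :
    (pairCount g h k : ℂ) * (Nat.card (Subgroup.centralizer ({h} : Set G)) : ℂ) *
      (Nat.card (Subgroup.centralizer ({g} : Set G)) : ℂ) =
      (Nat.card G : ℂ) * ∑ χ : IrrCharacter G,
        (χ : G → ℂ) g * (χ : G → ℂ) h * conj ((χ : G → ℂ) k) / (χ : G → ℂ) 1 := by
  have hG : (Nat.card G : ℂ) = (Nat.card (Subgroup.centralizer ({g} : Set G)) : ℂ) *
      ((Subgroup.centralizer ({g} : Set G)).index : ℂ) := by
    rw [← Nat.cast_mul, Subgroup.card_mul_index]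
  rw [pairCount_mul, Finset.sum_mul, hG, Finset.mul_sum]
  refine Finset.sum_congr rfl fun χ _ => ?_
  rw [clv, centralChar]
  ring

theorem sum_over_sylow (P : Sylow p G) (hP : Nat.card P = p)
    [Fintype (P : Subgroup G)] {χ : IrrCharacter G} {c : ℂ}
    (hc : ∀ x ∈ (P : Subgroup G), x ≠ 1 → (χ : G → ℂ) x = c) :
    ∑ x : (P : Subgroup G), (χ : G → ℂ) x = (χ : G → ℂ) 1 + ((p : ℂ) - 1) * c := by
  classical
  rw [← Finset.add_sum_erase _ _ (Finset.mem_univ (1 : (P : Subgroup G))), Subgroup.coe_one,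
    Finset.sum_congr (s₂ := Finset.univ.erase (1 : (P : Subgroup G))) rfl fun (x : (P : Subgroup G)) hx =>
      hc x x.2 fun e => Finset.ne_of_mem_erase hx (Subtype.ext e),
    Finset.sum_const, Finset.card_erase_of_mem (Finset.mem_univ _), Finset.card_univ,
    ← Nat.card_eq_fintype_card, show Nat.card (P : Subgroup G) = p from hP, nsmul_eq_mul,
    Nat.cast_sub (Fact.out : p.Prime).one_le, Nat.cast_one]

/-- The possible decompositions of the permutation character. -/
theorem mult_cases (hp : p.Prime) (hp5 : 5 ≤ p) {n m f x K : ℕ} {e σ : ℤ} (he : e = 1 ∨ e = -1)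
    (hσ : σ = 1 ∨ σ = -1) (hf : 2 ≤ f) (hx : 1 ≤ x) (hfe : (f : ℤ) ≡ e [ZMOD p])
    (hrel : 1 + e * f + σ * x = 0) (hs : ((p : ℤ) - 1) * (1 + e * n) + 2 * σ * m = 0)
    (hd : 3 * p = 1 + n * f + m * x + p * K) :
    (e = -1 ∧ σ = 1 ∧ n = 1 ∧ m = 0 ∧ (f + 1 = p ∧ K = 2 ∨ f + 1 = 2 * p ∧ K = 1 ∨ f + 1 = 3 * p ∧ K = 0)) ∨
      (e = 1 ∧ σ = -1 ∧ n = 0 ∧ m = 2 ∧ f = 6 ∧ K = 0) ∨
      (e = -1 ∧ σ = 1 ∧ n = 2 ∧ m = 2 ∧ f = 4 ∧ K = 0) := by
  rcases he with rfl | rfl
  · right; left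
    have hσ1 : σ = -1 := by
      rcases hσ with rfl | rfl
      · omega
      · rfl
    subst hσ1
    have hx' : x = f + 1 := by omega
    have hfp : p + 1 ≤ f := by
      by_contra hlt
      obtain ⟨c, hc⟩ := hfe.symm.dvd
      rcases lt_trichotomy c 0 with hc0 | hc0 | hc0
      · have : (p : ℤ) * c ≤ -p := by nlinarith
        omega
      · subst hc0; omega
      · have : (p : ℤ) ≤ p * c := by nlinarith
        omega
    have hs' : (p - 1) * (1 + n) = 2 * m := by
      zify [show 1 ≤ p by omega]; linarith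
    have h1 : p - 1 ≤ (p - 1) * (1 + n) := Nat.le_mul_of_pos_right _ (by omega)
    have h2 : m * (p + 2) ≤ m * x := Nat.mul_le_mul_left _ (by omega)
    have hp7 : p < 7 := by
      by_contra hlt
      have h3 : (p - 1) * (p + 2) ≤ 2 * m * (p + 2) := Nat.mul_le_mul_right _ (by omega)
      have h4 : 6 * (p + 2) ≤ (p - 1) * (p + 2) := Nat.mul_le_mul_right _ (by omega)
      nlinarith
    have hpe : p = 5 := by
      interval_cases p
      · rfl
      · norm_num at hp
    subst hpe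
    have hn0 : n = 0 := by
      by_contra hne
      omega
    subst hn0
    have hm : m = 2 := by omega
    subst hm
    omega
  · have hσ1 : σ = 1 := by
      rcases hσ with rfl | rfl
      · rfl
      · omega
    subst hσ1
    have hx' : x + 1 = f := by omega
    have hn1 : 1 ≤ n := by
      by_contra hlt
      have : n = 0 := by omega
      subst this
      push_cast at hs
      omega
    have hfp : p ≤ f + 1 := Nat.le_of_dvd (by omega) (by
      obtain ⟨c, hc⟩ := hfe.dvd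
      exact Int.natCast_dvd_natCast.1 ⟨-c, by push_cast; linarith⟩)
    rcases eq_or_lt_of_le hn1 with rfl | hn2
    · left
      have hm : m = 0 := by push_cast at hs; omega
      subst hm
      refine ⟨rfl, rfl, rfl, rfl, ?_⟩
      have hK : K ≤ 2 := by
        by_contra hlt
        have : p * 3 ≤ p * K := Nat.mul_le_mul_left _ (by omega)
        omega
      interval_cases K <;> omega
    · right; right
      obtain ⟨n', rfl⟩ : ∃ n', n = n' + 2 := ⟨n - 2, by omega⟩
      have hs' : (p - 1) * (n' + 1) = 2 * m := by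
        push_cast at hs
        zify [show 1 ≤ p by omega]; linarith
      have h2 : m * (p - 2) ≤ m * x := Nat.mul_le_mul_left _ (by omega)
      have h5 : (n' + 2) * (p - 1) ≤ (n' + 2) * f := Nat.mul_le_mul_left _ (by omega)
      have h1 : p - 1 ≤ (p - 1) * (n' + 1) := Nat.le_mul_of_pos_right _ (by omega)
      have hp7 : p < 7 := by
        by_contra hlt
        have h3 : (p - 1) * (p - 2) ≤ 2 * m * (p - 2) := Nat.mul_le_mul_right _ (by omega)
        have h4 : 6 * (p - 2) ≤ (p - 1) * (p - 2) := Nat.mul_le_mul_right _ (by omega)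
        have h6 : 2 * (p - 1) ≤ (n' + 2) * (p - 1) := Nat.mul_le_mul_right _ (by omega)
        have h7 : 2 * (m * (p - 2)) = 2 * m * (p - 2) := by ring
        omega
      have hpe : p = 5 := by
        interval_cases p
        · rfl
        · norm_num at hp
      subst hpe
      have hn0 : n' = 0 := by
        by_contra hne
        omega
      subst hn0
      have hm : m = 2 := by omega
      subst hm
      omega

theorem exists_deg (h : Hyp G Ω P) : ∃ t b η f r φ, Deg G Ω P t b η f r φ := by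
  classical
  have hp : p.Prime := Fact.out
  have hp5 := h.hp5
  have hp2 : p ≠ 2 := by omega
  haveI : Fintype (P : Subgroup G) := Fintype.ofFinite _
  haveI : Fintype Ω := Fintype.ofFinite Ω
  obtain ⟨t, ht, hinv⟩ := h.exists_invol
  have htt : t * t = 1 := by rw [← sq, ← ht, pow_orderOf_eq_one]
  have htreg : ¬ p ∣ orderOf t := by rw [ht]; intro hd; have := Nat.le_of_dvd two_pos hd; omega
  have hone : ¬ p ∣ orderOf (1 : G) := by rw [orderOf_one]; exact hp.not_dvd_one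
  obtain ⟨M, hM⟩ := exists_isPModular hp
  obtain ⟨X, Y, δ, σ, D⟩ := SmallSylow.exists_data hM hp2 P h.hP
  have hY := D.cardY
  rw [h.hq] at hY
  obtain ⟨η, hη⟩ := Finset.card_pos.1 (show 0 < Y.card by omega)
  have h1X : oneIrr G ∈ X := by
    refine (D.one_mem hM).resolve_right fun h1 => ?_
    obtain ⟨η', hη', hne'⟩ := Finset.exists_mem_ne (show 1 < Y.card by omega) (oneIrr G)
    refine hne' (SmallSylow.eq_one_of_degree_one h.perfect ?_)
    have h2 := D.agree η' hη' _ h1 1 hone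
    rw [← irr_charDegree_cast, ← irr_charDegree_cast, SmallSylow.charDegree_oneIrr, Nat.cast_inj] at h2
    exact h2
  have hX : (X.erase (oneIrr G)).card = 1 := by
    rw [Finset.card_erase_of_mem h1X, D.cardX, h.hq]
  obtain ⟨b, hb⟩ := Finset.card_eq_one.1 hX
  have hbm : b ∈ X.erase (oneIrr G) := hb ▸ Finset.mem_singleton_self b
  rw [Finset.mem_erase] at hbm
  obtain ⟨hb1, hbX⟩ := hbm
  have hδ1 : δ (oneIrr G) = 1 := by
    obtain ⟨x₀, hx₀, hx₀1⟩ := SmallSylow.exists_mem_ne P h.hP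
    have h0 := D.valX _ h1X x₀ hx₀ hx₀1
    have h' : ((δ (oneIrr G) : ℤ) : ℂ) = ((1 : ℤ) : ℂ) := by rw [← h0, Int.cast_one]; rfl
    exact_mod_cast h'
  set e := δ b with he
  set f := charDegree (b : G → ℂ) with hf
  set x := charDegree (η : G → ℂ) with hx
  have hfc : (b : G → ℂ) 1 = (f : ℂ) := (irr_charDegree_cast b).symm
  have hxc : (η : G → ℂ) 1 = (x : ℂ) := (irr_charDegree_cast η).symm
  have hf2 : 2 ≤ f := by
    by_contra hlt
    have hpos := irr_charDegree_pos b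
    exact hb1 (SmallSylow.eq_one_of_degree_one h.perfect (by omega))
  have hbY : b ∉ Y := Finset.disjoint_left.1 D.disj hbX
  have h1Y : oneIrr G ∉ Y := Finset.disjoint_left.1 D.disj h1X
  have hout : ∀ χ : IrrCharacter G, χ ≠ oneIrr G → χ ≠ b → χ ∉ Y →
      (∀ x ∈ (P : Subgroup G), x ≠ 1 → (χ : G → ℂ) x = 0) ∧ p ∣ charDegree (χ : G → ℂ) := by
    intro χ h1 h2 h3
    refine SmallSylow.outside hM P h.hP h.hC fun hmem => ?_
    rcases (D.union χ).1 hmem with hm | hm
    · have : χ ∈ X.erase (oneIrr G) := Finset.mem_erase.2 ⟨h1, hm⟩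
      rw [hb, Finset.mem_singleton] at this
      exact h2 this
    · exact h3 hm
  have hrelg : ∀ η' ∈ Y, ∀ g : G, ¬ p ∣ orderOf g →
      1 + (e : ℂ) * (b : G → ℂ) g + (σ : ℂ) * (η' : G → ℂ) g = 0 := by
    intro η' hη' g hg
    have h2 := D.relation η' hη' g hg
    rw [← Finset.add_sum_erase _ _ h1X, hb, Finset.sum_singleton, hδ1, Int.cast_one, one_mul] at h2
    exact h2
  have hrel : 1 + e * (f : ℤ) + σ * x = 0 := by
    apply Int.cast_injective (α := ℂ)
    have h2 := hrelg η hη 1 hone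
    push_cast
    rw [← hfc, ← hxc]
    exact h2
  -- the sums over the Sylow subgroup
  have hT : ∀ η' ∈ Y, ∑ w : (P : Subgroup G), (η' : G → ℂ) w = (x : ℂ) + 2 * σ := by
    have hconst : ∀ η' ∈ Y, ∑ w : (P : Subgroup G), (η' : G → ℂ) w = ∑ w : (P : Subgroup G), (η : G → ℂ) w := by
      intro η' hη'
      have hsum : ∀ χ : IrrCharacter G, χ ≠ oneIrr G → ∑ g : G, (χ : G → ℂ) g = 0 := fun χ hχ => by
        have h2 := classInner_irr_ne χ.2 (oneIrr G).2 fun e0 => hχ (Subtype.ext e0)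
        simp only [classInner, oneIrr, map_one, mul_one, mul_eq_zero, inv_eq_zero, Nat.cast_eq_zero] at h2
        exact h2.resolve_left Nat.card_pos.ne'
      have h2 := sum_singular P h.hP h.hC (F := (η' : G → ℂ) - (η : G → ℂ))
        (isClassFunction_sub (irr_isClassFun η') (irr_isClassFun η))
        fun g hg => sub_eq_zero.2 (D.agree η' hη' η hη g hg)
      simp only [Pi.sub_apply, Finset.sum_sub_distrib] at h2
      rw [hsum η' (fun e0 => h1Y (e0 ▸ hη')), hsum η (fun e0 => h1Y (e0 ▸ hη)), sub_zero, eq_comm, mul_eq_zero,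
        Nat.cast_eq_zero, sub_eq_zero] at h2
      exact h2.resolve_left Nat.card_pos.ne'
    have h2 : ∑ η' ∈ Y, ∑ w : (P : Subgroup G), (η' : G → ℂ) w = (Y.card : ℂ) * x + ((p : ℂ) - 1) * σ := by
      rw [Finset.sum_comm, ← Finset.add_sum_erase _ _ (Finset.mem_univ (1 : (P : Subgroup G))),
        Finset.sum_congr (s₂ := Finset.univ.erase (1 : (P : Subgroup G))) rfl fun w hw =>
          D.sumY w w.2 fun e0 => Finset.ne_of_mem_erase hw (Subtype.ext e0),
        Finset.sum_const, Finset.card_erase_of_mem (Finset.mem_univ _), Finset.card_univ,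
        ← Nat.card_eq_fintype_card, show Nat.card (P : Subgroup G) = p from h.hP, nsmul_eq_mul,
        Nat.cast_sub hp.one_le, Nat.cast_one, Subgroup.coe_one,
        Finset.sum_congr rfl fun η' hη' => (D.agree η' hη' η hη 1 hone).trans hxc, Finset.sum_const, nsmul_eq_mul]
    rw [Finset.sum_congr rfl hconst, Finset.sum_const, nsmul_eq_mul] at h2
    have hYc : ((p : ℂ) - 1) = 2 * (Y.card : ℂ) := by
      have : ((Y.card * 2 : ℕ) : ℂ) = ((p - 1 : ℕ) : ℂ) := by rw [hY]
      rw [Nat.cast_mul, Nat.cast_sub hp.one_le, Nat.cast_ofNat, Nat.cast_one] at this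
      linear_combination -this
    intro η' hη'
    rw [hconst η' hη']
    refine mul_left_cancel₀ (Nat.cast_ne_zero.2 (show Y.card ≠ 0 by omega) : (Y.card : ℂ) ≠ 0) ?_
    linear_combination h2 + (σ : ℂ) * hYc
  -- multiplicities
  obtain ⟨hcls, hcoef⟩ := isCharacter_iff_coeff_nat.1 (SmallPartitionChars.isCharacter_fixChar (G := G) Ω)
  choose n hn using fun χ : IrrCharacter G => hcoef χ χ.2
  have hexp : ∀ g, fixChar G Ω g = ∑ χ : IrrCharacter G, (n χ : ℂ) * (χ : G → ℂ) g := by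
    intro g
    conv_lhs => rw [eq_sum_irr hcls]
    rw [Finset.sum_apply]
    exact Finset.sum_congr rfl fun χ _ => by rw [Pi.smul_apply, smul_eq_mul, hn]
  have hn1 : n (oneIrr G) = 1 := by
    apply Nat.cast_injective (R := ℂ)
    rw [← hn, Nat.cast_one]
    exact h.fix_inner
  set O := Finset.univ \ insert (oneIrr G) (insert b Y) with hO
  have hsplit : ∀ F : IrrCharacter G → ℂ, ∑ χ, F χ = F (oneIrr G) + F b + ∑ χ ∈ Y, F χ + ∑ χ ∈ O, F χ := by
    intro F
    rw [← Finset.sum_sdiff (Finset.subset_univ (insert (oneIrr G) (insert b Y))), ← hO,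
      Finset.sum_insert (by simp only [Finset.mem_insert, not_or]; exact ⟨Ne.symm hb1, h1Y⟩),
      Finset.sum_insert hbY]
    ring
  have hOout : ∀ χ ∈ O, χ ≠ oneIrr G ∧ χ ≠ b ∧ χ ∉ Y := by
    intro χ hχ
    rw [hO] at hχ
    simp only [Finset.mem_sdiff, Finset.mem_univ, true_and, Finset.mem_insert, not_or] at hχ
    exact hχ
  set m := ∑ χ ∈ Y, n χ with hm
  set K := ∑ χ ∈ O, n χ * (charDegree (χ : G → ℂ) / p) with hK
  have hdegO : ∀ χ ∈ O, (χ : G → ℂ) 1 = ((p * (charDegree (χ : G → ℂ) / p) : ℕ) : ℂ) := fun χ hχ => by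
    obtain ⟨h1, h2, h3⟩ := hOout χ hχ
    rw [Nat.mul_div_cancel' (hout χ h1 h2 h3).2, irr_charDegree_cast]
  have hdeg : 3 * p = 1 + n b * f + m * x + p * K := by
    apply Nat.cast_injective (R := ℂ)
    rw [← h.fix_one, hexp, hsplit, hn1, Finset.sum_congr rfl fun χ (hχ : χ ∈ O) =>
        show (n χ : ℂ) * (χ : G → ℂ) 1 = ((p * (n χ * (charDegree (χ : G → ℂ) / p)) : ℕ) : ℂ) by
          rw [hdegO χ hχ]; push_cast; ring,
      Finset.sum_congr rfl fun χ (hχ : χ ∈ Y) =>
        show (n χ : ℂ) * (χ : G → ℂ) 1 = (n χ : ℂ) * x by rw [D.agree χ hχ η hη 1 hone, hxc],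
      ← Finset.sum_mul, hfc, hm, hK, Finset.mul_sum]
    simp only [oneIrr]
    push_cast
    ring
  have hs : ((p : ℤ) - 1) * (1 + e * (n b : ℤ)) + 2 * σ * (m : ℤ) = 0 := by
    have h2 : ∑ w : (P : Subgroup G), fixChar G Ω w = ((3 * p : ℕ) : ℂ) := by
      rw [← Finset.add_sum_erase _ _ (Finset.mem_univ (1 : (P : Subgroup G))), Subgroup.coe_one, h.fix_one,
        Finset.sum_eq_zero fun w hw => h.fix_p w.2 fun e0 => Finset.ne_of_mem_erase hw (Subtype.ext e0), add_zero]
    simp only [hexp] at h2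
    rw [Finset.sum_comm] at h2
    simp only [← Finset.mul_sum] at h2
    rw [hsplit, hn1, sum_over_sylow P h.hP (χ := oneIrr G) (c := 1) (fun _ _ _ => rfl),
      sum_over_sylow P h.hP (χ := b) (D.valX b hbX),
      Finset.sum_congr rfl fun χ (hχ : χ ∈ Y) => show (n χ : ℂ) * ∑ w : (P : Subgroup G), (χ : G → ℂ) w =
        (n χ : ℂ) * ((x : ℂ) + 2 * σ) by rw [hT χ hχ],
      ← Finset.sum_mul,
      Finset.sum_congr rfl fun χ (hχ : χ ∈ O) => show (n χ : ℂ) * ∑ w : (P : Subgroup G), (χ : G → ℂ) w =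
        (((p * (n χ * (charDegree (χ : G → ℂ) / p))) : ℕ) : ℂ) by
          obtain ⟨h1, h2', h3⟩ := hOout χ hχ
          rw [sum_over_sylow P h.hP (hout χ h1 h2' h3).1, hdegO χ hχ]; push_cast; ring,
      hdeg, hfc, hm, hK, Finset.mul_sum, ← he] at h2
    apply Int.cast_injective (α := ℂ)
    simp only [oneIrr] at h2
    push_cast at h2 ⊢
    rw [hm, Nat.cast_sum]
    linear_combination h2
  -- fixed points of involutions
  obtain ⟨r', hr'⟩ : ∃ r' : ℕ, fixChar G Ω t = (r' : ℂ) := ⟨_, rfl⟩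
  have hr13 : r' = 1 ∨ r' = 3 := by
    obtain ⟨a, a', haa, hta⟩ := refl_bound (SmallPartitionChars.isCharacter_fixChar (G := G) Ω) h.odd h.hP htt hinv
      (fun w hw hw1 => h.fix_p hw hw1) (k := 3) (by rw [h.fix_one, mul_comm])
    rw [hr'] at hta
    have h2 : (r' : ℤ) = (a : ℤ) - a' := int_cast_inj (by push_cast; exact hta)
    omega
  have hrmod : (r' = 1 ∧ p % 4 = 3) ∨ (r' = 3 ∧ p % 4 = 1) := by
    have h2 := h.sign_eq_one (Ω := Ω) t
    rw [Equiv.Perm.sign_of_pow_two_eq_one (by rw [← map_pow, sq, htt, map_one]), neg_one_pow_eq_one_iff_even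
      (by decide), ← Nat.card_eq_fintype_card, ← Nat.card_eq_fintype_card, h.hΩ] at h2
    have h3 : Nat.card (Function.fixedPoints ⇑(MulAction.toPermHom G Ω t)) = r' :=
      Nat.cast_injective (R := ℂ) (hr' ▸ rfl)
    rw [h3, Nat.even_iff] at h2
    have h4 : p % 2 = 1 := Nat.odd_iff.1 h.odd
    omega
  obtain ⟨φ, ψ, hψev, hb1', hbt'⟩ : ∃ (φ : ℤ) (ψ : ℕ), Even ψ ∧ (f : ℤ) - φ = 2 * ψ ∧ (b : G → ℂ) t = (φ : ℂ) := by
    obtain ⟨a, a', hev, h1, h2⟩ := char_invol h.perfect (isCharacter_of_irr b.2) htt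
    refine ⟨(a : ℤ) - a', a', hev, ?_, by rw [h2]; push_cast; rfl⟩
    rw [hfc, ← Nat.cast_add, Nat.cast_inj] at h1
    omega
  have hξ : (σ : ℂ) * (η : G → ℂ) t = -1 - (e : ℂ) * φ := by
    have h2 := hrelg η hη t htreg
    rw [hbt'] at h2
    linear_combination h2
  have hπt : K = 0 → (r' : ℂ) = (1 : ℂ) + (n b : ℂ) * φ + (m : ℂ) * (η : G → ℂ) t := by
    intro hK'
    rw [← hr']
    rw [hexp, hsplit, hn1, hbt', Finset.sum_congr rfl fun χ (hχ : χ ∈ Y) =>
        show (n χ : ℂ) * (χ : G → ℂ) t = (n χ : ℂ) * (η : G → ℂ) t by rw [D.agree χ hχ η hη t htreg],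
      ← Finset.sum_mul, hm, Nat.cast_sum, Finset.sum_eq_zero (s := O) fun χ hχ => ?_]
    · simp [oneIrr]
    · rw [hK'] at hK
      have h2 := Finset.sum_eq_zero_iff.1 hK.symm χ hχ
      obtain ⟨h1, h3, h4⟩ := hOout χ hχ
      have h5 : charDegree (χ : G → ℂ) / p ≠ 0 := fun e0 => by
        have h6 := hdegO χ hχ
        rw [e0, mul_zero, Nat.cast_zero] at h6
        exact irr_one_ne_zero χ h6
      rw [(mul_eq_zero.1 h2).resolve_right h5, Nat.cast_zero, zero_mul]
  rcases mult_cases (e := e) hp hp5 (D.hδ b hbX) D.hσ hf2 (irr_charDegree_pos η) (D.degX b hbX) hrel hs hdeg with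
    ⟨he', hσ', hn', hm', hfK⟩ | ⟨he', hσ', hn', hm', hf', hK'⟩ | ⟨he', hσ', hn', hm', hf', hK'⟩
  rotate_left
  · exfalso
    have h0 := hπt hK'
    rw [hn', hm'] at h0
    rw [he', hσ'] at hξ
    push_cast at h0 hξ
    have h2 : (r' : ℤ) = 3 + 2 * φ := int_cast_inj (by
      push_cast
      linear_combination h0 - 2 * hξ)
    obtain ⟨w, rfl⟩ := hψev
    omega
  · exfalso
    have h0 := hπt hK'
    rw [hn', hm'] at h0
    rw [he', hσ'] at hξ
    push_cast at h0 hξ
    have h2 : (r' : ℤ) = 4 * φ - 1 := int_cast_inj (by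
      push_cast
      linear_combination h0 + 2 * hξ)
    obtain ⟨w, rfl⟩ := hψev
    omega
  -- the main case
  have hY0 : ∀ χ ∈ Y, n χ = 0 := by
    rw [hm'] at hm
    exact Finset.sum_eq_zero_iff.1 hm.symm
  have hθeq : ∀ g, theta G Ω b g = ∑ χ ∈ O, (n χ : ℂ) * (χ : G → ℂ) g := by
    intro g
    rw [theta, hexp, hsplit, hn1, hn', Finset.sum_eq_zero (s := Y) fun χ hχ => by rw [hY0 χ hχ, Nat.cast_zero, zero_mul]]
    simp [oneIrr]
    ring
  have hθchar : IsCharacter G (theta G Ω b) := by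
    rw [show theta G Ω b = ∑ χ ∈ O, ((n χ : ℕ) : ℂ) • (χ : G → ℂ) from funext fun g => by
      rw [hθeq, Finset.sum_apply]; rfl]
    exact isCharacter_sum _ _ fun χ _ => isCharacter_nsmul (isCharacter_of_irr χ.2) _
  have hθ0 : ∀ w ∈ (P : Subgroup G), w ≠ 1 → theta G Ω b w = 0 := fun w hw hw1 => by
    rw [hθeq]
    refine Finset.sum_eq_zero fun χ hχ => ?_
    obtain ⟨h1, h2, h3⟩ := hOout χ hχ
    rw [(hout χ h1 h2 h3).1 w hw hw1, mul_zero]
  have hθ1 : theta G Ω b 1 = ((p * K : ℕ) : ℂ) := by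
    rw [hθeq, hK, Finset.mul_sum, Nat.cast_sum]
    exact Finset.sum_congr rfl fun χ hχ => by rw [hdegO χ hχ]; push_cast; ring
  have hθt : theta G Ω b t = ((r' : ℤ) : ℂ) - 1 - φ := by
    rw [theta, hr', hbt']; push_cast; rfl
  obtain ⟨ka, kb, hkab, hkt⟩ := refl_bound hθchar h.odd h.hP htt hinv hθ0 hθ1
  have hφk : (r' : ℤ) - 1 - φ = (ka : ℤ) - kb := int_cast_inj (by push_cast at hθt ⊢; rw [← hθt, hkt])
  have hfp : f ≤ 3 * p - 1 := by rcases hfK with ⟨h1, -⟩ | ⟨h1, -⟩ | ⟨h1, -⟩ <;> omega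
  rw [he'] at hrel
  rw [hσ'] at hrel
  have hxf : (x : ℤ) = f - 1 := by linarith
  have hxf' : (η : G → ℂ) 1 = (f : ℂ) - 1 := by
    rw [hxc]; exact_mod_cast congrArg (Int.cast (R := ℂ)) hxf
  have hrelη : ∀ g : G, ¬ p ∣ orderOf g → (η : G → ℂ) g = (b : G → ℂ) g - 1 := fun g hg => by
    have h2 := hrelg η hη g hg
    rw [he', hσ'] at h2
    push_cast at h2
    linear_combination h2
  -- class multiplication at an element of the Sylow subgroup
  obtain ⟨x₀, hx₀, hx₀1⟩ := SmallSylow.exists_mem_ne P h.hP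
  have hfne : (f : ℂ) ≠ 0 := Nat.cast_ne_zero.2 (by omega)
  have hxne : (f : ℂ) - 1 ≠ 0 := sub_ne_zero.2 (by exact_mod_cast (show f ≠ 1 by omega))
  have hcol : ∀ u : G, ¬ p ∣ orderOf u → ∑ χ : IrrCharacter G,
      (χ : G → ℂ) t * (χ : G → ℂ) u * conj ((χ : G → ℂ) x₀) / (χ : G → ℂ) 1 =
      ((f : ℂ) - φ) * ((f : ℂ) - (b : G → ℂ) u) / ((f : ℂ) * ((f : ℂ) - 1)) := by
    intro u hu
    rw [hsplit, Finset.sum_eq_zero (s := O) fun χ hχ => by
      obtain ⟨h1, h2, h3⟩ := hOout χ hχ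
      rw [(hout χ h1 h2 h3).1 x₀ hx₀ hx₀1, map_zero, mul_zero, zero_div]]
    rw [Finset.sum_congr rfl fun χ (hχ : χ ∈ Y) => show
        (χ : G → ℂ) t * (χ : G → ℂ) u * conj ((χ : G → ℂ) x₀) / (χ : G → ℂ) 1 =
          ((φ : ℂ) - 1) * ((b : G → ℂ) u - 1) / ((f : ℂ) - 1) * conj ((χ : G → ℂ) x₀) by
      rw [D.agree χ hχ η hη t htreg, D.agree χ hχ η hη u hu, D.agree χ hχ η hη 1 hone, hrelη t htreg,
        hrelη u hu, hbt', hxf']
      ring, ← Finset.mul_sum, ← map_sum, D.sumY x₀ hx₀ hx₀1, D.valX b hbX x₀ hx₀ hx₀1, map_intCast, map_intCast,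
      hbt', hfc, ← he, he', hσ']
    simp only [oneIrr, map_one]
    push_cast
    field_simp
    ring
  set c := Nat.card (Subgroup.centralizer ({t} : Set G)) with hc
  have hord : (Nat.card G : ℤ) * ((f : ℤ) - φ) ^ 2 = p * (c : ℤ) ^ 2 * f * ((f : ℤ) - 1) := by
    have h2 := pair_formula t t x₀
    rw [h.pair_self ht hinv hx₀ hx₀1, hcol t htreg, hbt', ← hc] at h2
    field_simp at h2
    apply int_cast_inj
    push_cast
    linear_combination -h2
  have hfφ : (f : ℤ) ≠ φ := by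
    intro e0
    rw [e0, sub_self, zero_pow two_ne_zero, mul_zero, eq_comm, mul_eq_zero, mul_eq_zero, mul_eq_zero] at hord
    have h2 : 0 < c := Nat.card_pos
    rcases hord with ((h3 | h3) | h3) | h3
    · omega
    · exact absurd (pow_eq_zero_iff two_ne_zero |>.1 h3) (by omega)
    · omega
    · omega
  have hone' : ∀ u : G, orderOf u = 2 → IsConj t u := by
    intro u hu
    by_contra hcu
    have hureg : ¬ p ∣ orderOf u := by rw [hu]; intro hd; have := Nat.le_of_dvd two_pos hd; omega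
    have h2 := pair_formula t u x₀
    rw [h.pair_other ht hinv hx₀ hx₀1 hu hcu, Nat.cast_zero, zero_mul, zero_mul, hcol u hureg, eq_comm,
      mul_eq_zero, Nat.cast_eq_zero, div_eq_zero_iff, mul_eq_zero] at h2
    rcases h2 with h2 | (h2 | h2) | h2
    · exact Nat.card_pos.ne' h2
    · exact hfφ (int_cast_inj (by push_cast; linear_combination h2))
    · have h3 : u = 1 := h.irr_faithful hb1 (by rw [hfc]; linear_combination -h2)
      rw [h3, orderOf_one] at hu
      omega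
    · exact mul_ne_zero hfne hxne h2
  obtain ⟨w, hw⟩ := hψev
  refine ⟨t, b, η, f, r', φ,
    { ht := ht, hinv := hinv, oneclass := hone', fdef := hfc, bne := hb1
      fcases := by rcases hfK with ⟨h1, -⟩ | ⟨h1, -⟩ | ⟨h1, -⟩ <;> omega
      phi := hbt', rel := hrelη, theta_char := hθchar
      theta_irr := fun hf2p => ?_
      order := hord
      fix := fun u hu => Nat.cast_injective (R := ℂ) (by
        show fixChar G Ω u = _
        rw [← hr', classFun_eq_of_isConj (isCharacter_iff_coeff_nat.1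
          (SmallPartitionChars.isCharacter_fixChar (G := G) Ω)).1 (hone' u hu)])
      rmod := hrmod
      phi_one := fun hf3 => by
        rcases hfK with ⟨h1, h1'⟩ | ⟨h1, h1'⟩ | ⟨h1, h1'⟩ <;> omega
      phi_two := fun hf2p => by
        rcases hfK with ⟨h1, h1'⟩ | ⟨h1, h1'⟩ | ⟨h1, h1'⟩ <;> omega
      phi_five := fun hfp5 hp5' => by
        obtain ⟨a, a', hev, h1, h2⟩ := char_invol h.perfect hθchar htt
        obtain ⟨v, hv⟩ := hev
        rw [hθ1, ← Nat.cast_add, Nat.cast_inj] at h1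
        have h3 : (r' : ℤ) - 1 - φ = (a : ℤ) - a' := int_cast_inj (by push_cast at hθt ⊢; rw [← hθt, h2])
        rcases hfK with ⟨k1, k1'⟩ | ⟨k1, k1'⟩ | ⟨k1, k1'⟩
        · rw [k1'] at h1 hkab; omega
        · omega
        · omega }⟩
  -- irreducibility
  have hK1 : K = 1 := by rcases hfK with ⟨h1, h1'⟩ | ⟨h1, h1'⟩ | ⟨h1, h1'⟩ <;> omega
  rw [hK] at hK1
  obtain ⟨χ₀, hχ₀, hne⟩ := Finset.exists_ne_zero_of_sum_ne_zero (hK1 ▸ one_ne_zero :
    ∑ χ ∈ O, n χ * (charDegree (χ : G → ℂ) / p) ≠ 0)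
  rw [← Finset.add_sum_erase _ _ hχ₀] at hK1
  have hne' : n χ₀ * (charDegree (χ₀ : G → ℂ) / p) = 1 := by omega
  have hrest : ∑ χ ∈ O.erase χ₀, n χ * (charDegree (χ : G → ℂ) / p) = 0 := by omega
  have heq : theta G Ω b = (χ₀ : G → ℂ) := funext fun g => by
    rw [hθeq, ← Finset.add_sum_erase _ _ hχ₀, (mul_eq_one.1 hne').1, Nat.cast_one, one_mul,
      Finset.sum_eq_zero fun χ hχ => ?_, add_zero]
    have h2 := Finset.sum_eq_zero_iff.1 hrest χ hχ
    have h5 : charDegree (χ : G → ℂ) / p ≠ 0 := fun e0 => by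
      have h6 := hdegO χ (Finset.mem_of_mem_erase hχ)
      rw [e0, mul_zero, Nat.cast_zero] at h6
      exact irr_one_ne_zero χ h6
    rw [(mul_eq_zero.1 h2).resolve_right h5, Nat.cast_zero, zero_mul]
  exact heq ▸ χ₀.2

end CfsgLib.DegreeThreeP
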