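import Cfsg.Agent.Lib.DegreeThreeP.QD
import Cfsg.Agent.Lib.DegreeThreeP.Arith
import Cfsg.Agent.Lib.GW.Final
import Cfsg.Agent.Lib.SCNonCyclic.Psl
import Cfsg.Agent.Lib.DicksonFull.Subgroups
import Cfsg.Agent.Lib.SmallCent.Two
import Cfsg.Agent.S3224

/-!
# Groups of degree `3p`: dihedral Sylow two-subgroups
-/

set_option autoImplicit false
set_option linter.style.haveILetI false
set_option linter.unusedSectionVars false

namespace CfsgLib.DegreeThreeP

open Cfsg MulAction
open scoped Pointwise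

universe u v

variable {G : Type u} [Group G] [Fintype G] {Ω : Type v} [MulAction G Ω] [Finite Ω]
  {p : ℕ} [Fact p.Prime] {P : Sylow p G} {t : G} {b η : IrrCharacter G} {f r : ℕ} {φ : ℤ}

theorem gw_cases (h : Hyp G Ω P) (D : Deg G Ω P t b η f r φ) {S : Sylow 2 G} {n : ℕ} (hn : 2 ≤ n)
    (e : (S : Subgroup G) ≃* DihedralGroup n) :
    (∃ (F : Type) (_ : Field F) (_ : Fintype F), Odd (Fintype.card F) ∧ 5 ≤ Fintype.card F ∧
        2 * Nat.card G = Fintype.card F * (Fintype.card F ^ 2 - 1) ∧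
        (Nat.card (Subgroup.centralizer ({t} : Set G)) = Fintype.card F - 1 ∨
          Nat.card (Subgroup.centralizer ({t} : Set G)) = Fintype.card F + 1) ∧
        Nonempty (G ≃* Matrix.ProjectiveSpecialLinearGroup (Fin 2) F)) ∨
      Nat.card G = 2520 := by
  haveI := h.simple
  haveI : Group.IsPerfect G := ⟨h.perfect⟩
  haveI : Fact (Nat.Prime 2) := ⟨Nat.prime_two⟩
  have hO : oddCore G = ⊥ := by
    refine ((inferInstance : (oddCore G).Normal).eq_bot_or_eq_top).resolve_right fun e' => ?_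
    have h1 := CfsgLib.odd_card_oddCore (G := G)
    rw [e', Subgroup.card_top] at h1
    exact Nat.not_even_iff_odd.2 h1 (even_iff_two_dvd.2 (D.ht ▸ orderOf_dvd_natCard t))
  rcases CfsgLib.GWConseq.GWThm.model CfsgLib.GW.gwThm ⟨S, n, hn, ⟨e⟩⟩ hO with
    ⟨F, hF, hFt, hodd, h3, ⟨i⟩⟩ | ⟨⟨e7⟩⟩
  · refine Or.inl ⟨F, hF, hFt, hodd, ?_, ?_, ?_, ⟨i⟩⟩
    · obtain ⟨w, hw⟩ := hodd; omega
    · rw [Nat.card_congr i.toEquiv]
      rw [← CfsgLib.DicksonFull.card_psl (F := F), show Nat.gcd 2 (Fintype.card F - 1) = 2 from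
        Nat.gcd_eq_left (by obtain ⟨w, hw⟩ := hodd; omega)]
    · have hx : orderOf (i t) = 2 := by rw [MulEquiv.orderOf_eq]; exact D.ht
      have hc : Nat.card (Subgroup.centralizer ({t} : Set G)) =
          Nat.card (Subgroup.centralizer ({i t} : Set (Matrix.ProjectiveSpecialLinearGroup (Fin 2) F))) := by
        refine Nat.card_congr (Equiv.subtypeEquiv i.toEquiv fun g => ?_)
        rw [Subgroup.mem_centralizer_singleton_iff, Subgroup.mem_centralizer_singleton_iff]
        show _ ↔ i g * i t = i t * i g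
        rw [← map_mul, ← map_mul, i.injective.eq_iff]
      rw [hc]
      exact CfsgLib.SCNonCyclic.card_cent_invol hodd hx
  · refine Or.inr ?_
    rw [Nat.card_congr e7.toEquiv, nat_card_alternatingGroup]
    simp
    decide

theorem eq_five_of_dvd {p : ℕ} (hp : p.Prime) (h : p ∣ 2520) (h5 : 5 ≤ p) (h4 : p % 4 = 1) : p = 5 := by
  have h7 : p ≤ 7 := by
    by_contra hlt
    have h1 : p ∣ 2 ^ 3 * (3 ^ 2 * (5 * 7)) := by norm_num; exact h
    rcases hp.dvd_mul.1 h1 with h2 | h2
    · have := Nat.le_of_dvd (by norm_num) (hp.dvd_of_dvd_pow h2); omega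
    rcases hp.dvd_mul.1 h2 with h2 | h2
    · have := Nat.le_of_dvd (by norm_num) (hp.dvd_of_dvd_pow h2); omega
    rcases hp.dvd_mul.1 h2 with h2 | h2 <;> have := Nat.le_of_dvd (by norm_num) h2 <;> omega
  omega

/-- The frame case: `G` is `PSL(2, 2p-1)` in rank three. -/
theorem frame_psl (h : Hyp G Ω P) (D : Deg G Ω P t b η f r φ) (hr : r = 3)
    (hf : f + 1 = 2 * p ∨ f + 1 = 3 * p) {S : Sylow 2 G} {z v : G} (Fr : Frame G Ω S z v) :
    f + 1 = 2 * p ∧ ∃ (F : Type) (_ : Field F) (_ : Fintype F), Odd (Fintype.card F) ∧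
      Fintype.card F + 1 = 2 * p ∧ 2 * Nat.card G = Fintype.card F * (Fintype.card F ^ 2 - 1) ∧
      Nonempty (G ≃* Matrix.ProjectiveSpecialLinearGroup (Fin 2) F) := by
  haveI : Fact (Nat.Prime 2) := ⟨Nat.prime_two⟩
  have hp : p.Prime := Fact.out
  have hp5 := h.hp5
  have hp4 : p % 4 = 1 := by rcases D.rmod with ⟨e, -⟩ | ⟨-, e⟩ <;> omega
  have hS4 : Nat.card (S : Subgroup G) ≠ 4 := by
    intro h4
    rw [show (4 : ℕ) = 2 ^ 2 from rfl] at h4
    rcases hf with hf | hf
    · obtain ⟨k, o, ho, hk, hS⟩ := parts_two D hf S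
      have := Nat.pow_right_injective le_rfl (h4.symm.trans hS)
      obtain rfl : k = 1 := by omega
      obtain ⟨w, rfl⟩ := ho
      omega
    · obtain ⟨k, o, s, -, -, hS, hks⟩ := parts_three D hf hr S
      have := Nat.pow_right_injective le_rfl (h4.symm.trans hS)
      omega
  have hC := Fr.hcent ⟨v, Fr.hvS⟩ rfl
  rcases Cfsg.Agent.S3224.result (S := (S : Subgroup G)) S.2 _ ((Subgroup.orderOf_mk v _).trans Fr.hv) hC with
    ⟨n, ⟨e⟩⟩ | hQD | h4
  · have hn : 2 ≤ n := by
      have h1 : Nat.card (S : Subgroup G) = 2 * n := by rw [Nat.card_congr e.toEquiv, DihedralGroup.nat_card]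
      have h2 : 4 ≤ Nat.card (S : Subgroup G) := hC ▸ Nat.card_le_card_of_injective _ Subtype.val_injective
      omega
    have hord := D.order
    rcases gw_cases h D hn e with ⟨F, _, _, hodd, hq5, hG, hc, hi⟩ | hG
    · set q := Fintype.card F with hqdef
      obtain ⟨l, hl⟩ := CharP.exists F
      obtain ⟨a, hlp, hqa⟩ := FiniteField.card F l
      have hq1 : 1 ≤ q ^ 2 := Nat.one_le_pow _ _ (by omega)
      have hG' : 2 * (Nat.card G : ℤ) = (q : ℤ) * ((q : ℤ) ^ 2 - 1) := by
        have := congrArg (Nat.cast (R := ℤ)) hG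
        push_cast [Nat.cast_sub hq1] at this
        exact this
      rcases hf with hf | hf
      · refine ⟨hf, F, inferInstance, inferInstance, hodd, ?_, hG, hi⟩
        rw [D.phi_two hf] at hord
        have h1 : (Nat.card G : ℤ) * ((f : ℤ) - 1) =
            p * (Nat.card (Subgroup.centralizer ({t} : Set G)) : ℤ) ^ 2 * f := by
          refine mul_right_cancel₀ (show (f : ℤ) - 1 ≠ 0 by omega) ?_
          linear_combination hord
        rw [show (f : ℤ) = 2 * p - 1 by omega] at h1
        rcases hc with hc | hc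
        · rw [hc, show ((q - 1 : ℕ) : ℤ) = (q : ℤ) - 1 by omega] at h1
          have := gw_rank_minus (p := (p : ℤ)) (q := (q : ℤ)) (by omega) (by
            refine mul_right_cancel₀ (show (q : ℤ) - 1 ≠ 0 by omega) ?_
            linear_combination h1 - ((p : ℤ) - 1) * hG') (by omega)
          omega
        · rw [hc, Nat.cast_add, Nat.cast_one] at h1
          exact (gw_rank_plus (p := (p : ℤ)) (q := (q : ℤ)) (by omega) (by
            refine mul_right_cancel₀ (show (q : ℤ) + 1 ≠ 0 by omega) ?_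
            linear_combination h1 - ((p : ℤ) - 1) * hG') (by omega)).elim
      · exfalso
        rw [D.phi_one hf, hr, show (f : ℤ) = 3 * p - 1 by omega] at hord
        push_cast at hord
        rcases hc with hc | hc
        · rw [hc, show ((q - 1 : ℕ) : ℤ) = (q : ℤ) - 1 by omega] at hord
          refine gw_trans_minus hlp hqa hp hp5 hq5 hodd ?_
          refine mul_right_cancel₀ (show (q : ℤ) - 1 ≠ 0 by omega) ?_
          linear_combination 2 * hord - 9 * ((p : ℤ) - 1) ^ 2 * hG'
        · rw [hc, Nat.cast_add, Nat.cast_one] at hord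
          refine gw_trans_plus hlp hqa hp hp5 hq5 hodd ?_
          refine mul_right_cancel₀ (show (q : ℤ) + 1 ≠ 0 by omega) ?_
          linear_combination 2 * hord - 9 * ((p : ℤ) - 1) ^ 2 * hG'
    · exfalso
      obtain rfl := eq_five_of_dvd hp (hG ▸ (dvd_mul_left p 3).trans (by
        haveI := h.trans
        haveI : Nonempty Ω := (Nat.card_pos_iff.1 (by rw [h.hΩ]; omega)).1
        obtain ⟨x⟩ := ‹Nonempty Ω›
        rw [← h.hΩ, ← MulAction.index_stabilizer_of_transitive G x]
        exact Subgroup.index_dvd_card _)) hp5 hp4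
      rw [hG] at hord
      rcases hf with hf | hf
      · obtain rfl : f = 9 := by omega
        rw [D.phi_two hf] at hord
        push_cast at hord
        have h1 : (Nat.card (Subgroup.centralizer ({t} : Set G)) : ℤ) ^ 2 = 448 := by
          generalize (Nat.card (Subgroup.centralizer ({t} : Set G)) : ℤ) ^ 2 = w at hord ⊢
          omega
        have h2 : Nat.card (Subgroup.centralizer ({t} : Set G)) ^ 2 = 448 := by exact_mod_cast h1
        have h3 : Nat.card (Subgroup.centralizer ({t} : Set G)) < 22 := by nlinarith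
        generalize Nat.card (Subgroup.centralizer ({t} : Set G)) = c at h2 h3
        interval_cases c <;> omega
      · obtain rfl : f = 14 := by omega
        rw [D.phi_one hf, hr] at hord
        push_cast at hord
        generalize (Nat.card (Subgroup.centralizer ({t} : Set G)) : ℤ) ^ 2 = w at hord
        omega
  · exact absurd hQD (not_quasiDihedral h D hr hf Fr)
  · exact absurd h4 hS4

/-- The case `p = 5`, `f = 4`. -/
theorem degree_four (h : Hyp G Ω P) (D : Deg G Ω P t b η f r φ) (hf : f + 1 = p) (hp : p = 5) :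
    Nat.card G = 60 := by
  haveI : Fact (Nat.Prime 2) := ⟨Nat.prime_two⟩
  haveI := h.simple
  subst hp
  obtain rfl : f = 4 := by omega
  have hord := D.order
  rw [D.phi_five hf rfl] at hord
  push_cast at hord
  obtain ⟨S⟩ : Nonempty (Sylow 2 G) := inferInstance
  obtain ⟨s, g, d, hg, hd, hS, hG, hc⟩ := sylow_parts D S
  have hs : s = 2 := by
    rw [hG, hc] at hord
    have h2 : 2 ^ (s + 2) * g = 2 ^ (s + s) * (15 * d ^ 2) := by
      apply Nat.cast_injective (R := ℤ)
      push_cast at hord ⊢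
      rw [pow_add, pow_add]
      linarith
    have := two_part hg ((Nat.odd_iff.2 (by norm_num : 15 % 2 = 1)).mul hd.pow) h2
    omega
  subst hs
  have hncyc : ¬ IsCyclic (S : Subgroup G) :=
    SmallCent.not_cyclic_sylow (fun hcy => h.noncomm fun a b => by
      obtain ⟨x, hx⟩ := hcy.exists_generator
      obtain ⟨i, rfl⟩ := hx a
      obtain ⟨j, rfl⟩ := hx b
      exact (Commute.zpow_zpow (Commute.refl x) i j).eq) (D.ht ▸ orderOf_dvd_natCard t) S
  haveI : IsKleinFour (S : Subgroup G) :=
    ⟨by rw [hS]; norm_num, (not_isCyclic_iff_exponent_eq_prime Nat.prime_two hS).1 hncyc⟩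
  obtain ⟨e⟩ := IsKleinFour.nonempty_mulEquiv (G₁ := (S : Subgroup G)) (G₂ := DihedralGroup 2)
  rcases gw_cases h D le_rfl e with ⟨F, _, _, hodd, hq5, hG', hc', -⟩ | hG'
  · set q := Fintype.card F with hqdef
    have hq1 : 1 ≤ q ^ 2 := Nat.one_le_pow _ _ (by omega)
    have hG2 : 2 * (Nat.card G : ℤ) = (q : ℤ) * ((q : ℤ) ^ 2 - 1) := by
      have := congrArg (Nat.cast (R := ℤ)) hG'
      push_cast [Nat.cast_sub hq1] at this
      exact this
    have hq : (q : ℤ) = 5 := by
      rcases hc' with hc' | hc'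
      · rw [hc', show ((q - 1 : ℕ) : ℤ) = (q : ℤ) - 1 by omega] at hord
        refine gw_four_minus (mul_right_cancel₀ (show (q : ℤ) - 1 ≠ 0 by omega) ?_)
        linarith
      · rw [hc', Nat.cast_add, Nat.cast_one] at hord
        refine (gw_four_plus (q := (q : ℤ)) (by omega) (mul_right_cancel₀ (show (q : ℤ) + 1 ≠ 0 by omega) ?_)).elim
        linarith
    rw [hq] at hG2
    omega
  · exfalso
    obtain ⟨w, rfl⟩ := hg
    omega

end CfsgLib.DegreeThreeP
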