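import Cfsg.Agent.Lib.DegreeThreeP.Degrees
import Cfsg.Prelude.Def_Involutions

/-!
# Groups of degree `3p`: fixed points of involutions
-/

set_option autoImplicit false
set_option linter.style.haveILetI false
set_option linter.unusedSectionVars false

namespace CfsgLib.DegreeThreeP

open Cfsg MulAction
open scoped Pointwise

universe u v

variable {G : Type u} [Group G] [Fintype G] {Ω : Type v} [MulAction G Ω] [Finite Ω]

/-- A set of points whose involutions have exactly that set of fixed points gives a strongly embedded subgroup. -/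
theorem stronglyEmbedded_of_fix [IsPretransitive G Ω] (S : Sylow 2 G) {L : Set Ω} (hne : L.Nonempty)
    (hL : L ≠ Set.univ) (hSL : (S : Subgroup G) ≤ stabilizer G L) {z : G} (hzS : z ∈ (S : Subgroup G))
    (hz : orderOf z = 2)
    (hfix : ∀ u ∈ (S : Subgroup G), orderOf u = 2 → fixedBy Ω u = L) :
    IsStronglyEmbedded (stabilizer G L) := by
  haveI : Fact (Nat.Prime 2) := ⟨Nat.prime_two⟩
  set M := stabilizer G L with hM
  have hall : ∀ u ∈ M, orderOf u = 2 → fixedBy Ω u = L := by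
    intro u hu hu2
    obtain ⟨Q, hQ⟩ := (IsPGroup.of_card (show Nat.card (Subgroup.zpowers (⟨u, hu⟩ : M)) = 2 ^ 1 by
      rw [Nat.card_zpowers, ← Subgroup.orderOf_coe, hu2, pow_one])).exists_le_sylow
    obtain ⟨m, hm⟩ := MulAction.exists_smul_eq M (S.subtype hSL) Q
    have hmem := hQ (Subgroup.mem_zpowers (⟨u, hu⟩ : M))
    rw [← hm, Sylow.coe_subgroup_smul] at hmem
    obtain ⟨s, hs, hsu⟩ := hmem
    have e : (m : G) * (s : G) * (m : G)⁻¹ = u := congrArg Subtype.val hsu
    have hso : orderOf (s : G) = 2 := by rw [← hu2, ← e, ← MulAut.conj_apply, MulEquiv.orderOf_eq]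
    have h1 := hfix s hs hso
    have hmL : (m : G) • L = L := m.2
    rw [← e, ← hmL, ← h1]
    ext w
    rw [Set.mem_smul_set_iff_inv_smul_mem, mem_fixedBy, mem_fixedBy, mul_smul, mul_smul, smul_eq_iff_eq_inv_smul]
  refine ⟨?_, ?_, fun g hg => ?_⟩
  · intro htop
    obtain ⟨w, hw⟩ := hne
    refine hL (Set.eq_univ_of_forall fun x => ?_)
    obtain ⟨g, rfl⟩ := exists_smul_eq G w x
    have hgL : g • L = L := (htop.symm ▸ Subgroup.mem_top g : g ∈ M)
    rw [← hgL]
    exact Set.smul_mem_smul_set hw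
  · rw [even_iff_two_dvd, ← hz]
    exact Subgroup.orderOf_dvd_natCard M (hSL hzS)
  · by_contra hodd
    rw [Nat.not_odd_iff_even, even_iff_two_dvd] at hodd
    obtain ⟨⟨u, huM, hug⟩, hu⟩ := exists_prime_orderOf_dvd_card' 2 hodd
    rw [← Subgroup.orderOf_coe] at hu
    obtain ⟨w, hw, hwu⟩ := hug
    have e : g * w * g⁻¹ = u := hwu
    have hwo : orderOf w = 2 := by
      have hu' : orderOf u = 2 := hu
      rw [← hu', ← e, ← MulAut.conj_apply, MulEquiv.orderOf_eq]
    refine hg ?_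
    show g • L = L
    nth_rewrite 1 [← hall w hw hwo]
    rw [← hall u huM hu]
    ext x
    rw [Set.mem_smul_set_iff_inv_smul_mem, mem_fixedBy, mem_fixedBy, ← e, mul_smul, mul_smul,
      ← smul_eq_iff_eq_inv_smul]

/-- An involution moving the fixed points of a central involution. -/
structure Frame (G : Type u) [Group G] (Ω : Type v) [MulAction G Ω] (S : Sylow 2 G) (z v : G) : Prop where
  hzS : z ∈ (S : Subgroup G)
  hz : orderOf z = 2
  hzc : ∀ s ∈ (S : Subgroup G), s * z = z * s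
  hvS : v ∈ (S : Subgroup G)
  hv : orderOf v = 2
  hcent : ∀ x : (S : Subgroup G), (x : G) = v → Nat.card (Subgroup.centralizer ({x} : Set (S : Subgroup G))) = 4
  hfix : ∃ α : Ω, ∀ s ∈ (S : Subgroup G), s • α = α
  hmove : ∃ β : Ω, z • β = β ∧ v • β ≠ β

variable {p : ℕ} [Fact p.Prime] {P : Sylow p G}

/-- A Sylow two-subgroup has a central involution. -/
theorem exists_central_invol (S : Sylow 2 G) (h2 : 2 ∣ Nat.card G) :
    ∃ z ∈ (S : Subgroup G), orderOf z = 2 ∧ ∀ s ∈ (S : Subgroup G), s * z = z * s := by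
  haveI : Fact (Nat.Prime 2) := ⟨Nat.prime_two⟩
  haveI : Nontrivial (S : Subgroup G) := by
    rw [← Finite.one_lt_card_iff_nontrivial]
    exact lt_of_lt_of_le one_lt_two (Nat.le_of_dvd Nat.card_pos (S.dvd_card_of_dvd_card h2))
  haveI := S.isPGroup'.center_nontrivial
  obtain ⟨k, hk⟩ := IsPGroup.iff_card.1 (S.isPGroup'.to_subgroup (Subgroup.center (S : Subgroup G)))
  have hk0 : k ≠ 0 := fun e => by
    rw [e, pow_zero] at hk
    exact absurd (Finite.one_lt_card (α := Subgroup.center (S : Subgroup G))) (by omega)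
  obtain ⟨⟨⟨z, hzS⟩, hzc⟩, hzo⟩ := exists_prime_orderOf_dvd_card' (G := Subgroup.center (S : Subgroup G)) 2
    (hk ▸ dvd_pow_self 2 hk0)
  rw [← Subgroup.orderOf_coe, ← Subgroup.orderOf_coe] at hzo
  exact ⟨z, hzS, hzo, fun s hs => congrArg Subtype.val (Subgroup.mem_center_iff.1 hzc ⟨s, hs⟩)⟩

/-- The two-parts of the orders. -/
theorem sylow_parts {t : G} {b η : IrrCharacter G} {f r : ℕ} {φ : ℤ} (D : Deg G Ω P t b η f r φ)
    (S : Sylow 2 G) : ∃ s g d : ℕ, Odd g ∧ Odd d ∧ Nat.card (S : Subgroup G) = 2 ^ s ∧ Nat.card G = 2 ^ s * g ∧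
      Nat.card (Subgroup.centralizer ({t} : Set G)) = 2 ^ s * d := by
  haveI : Fact (Nat.Prime 2) := ⟨Nat.prime_two⟩
  obtain ⟨z, hzS, hzo, hcomm⟩ := exists_central_invol S (D.ht ▸ orderOf_dvd_natCard t)
  obtain ⟨s, hs⟩ := IsPGroup.iff_card.1 S.isPGroup'
  have hg := (S : Subgroup G).card_mul_index
  rw [hs] at hg
  have hgodd : Odd (S : Subgroup G).index := by
    rw [← Nat.not_even_iff_odd, even_iff_two_dvd]; exact S.not_dvd_index
  have hle : (S : Subgroup G) ≤ Subgroup.centralizer ({z} : Set G) := fun w hw =>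
    Subgroup.mem_centralizer_singleton_iff.2 (hcomm w hw)
  obtain ⟨c, hc⟩ := isConj_iff.1 (D.oneclass z hzo)
  have hcard : Nat.card (Subgroup.centralizer ({t} : Set G)) = Nat.card (Subgroup.centralizer ({z} : Set G)) := by
    refine Nat.card_congr ((MulAut.conj c).toEquiv.subtypeEquiv fun w => ?_)
    rw [Subgroup.mem_centralizer_singleton_iff, Subgroup.mem_centralizer_singleton_iff]
    show _ ↔ c * w * c⁻¹ * z = z * (c * w * c⁻¹)
    rw [← hc, show c * w * c⁻¹ * (c * t * c⁻¹) = c * (w * t) * c⁻¹ by group,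
      show c * t * c⁻¹ * (c * w * c⁻¹) = c * (t * w) * c⁻¹ by group, mul_left_inj, mul_right_inj]
  obtain ⟨d, hd⟩ := Subgroup.card_dvd_of_le hle
  rw [hs] at hd
  refine ⟨s, _, d, hgodd, ?_, hs, hg.symm, hcard.trans hd⟩
  have h1 := Subgroup.card_subgroup_dvd_card (Subgroup.centralizer ({z} : Set G))
  rw [hd, ← hg] at h1
  rw [← Nat.not_even_iff_odd, even_iff_two_dvd]
  intro h2
  exact (Nat.not_even_iff_odd.2 hgodd) (even_iff_two_dvd.2 (h2.trans (Nat.dvd_of_mul_dvd_mul_left (by positivity) h1)))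

theorem local_cases (h : Hyp G Ω P) {t : G} {b η : IrrCharacter G} {f r : ℕ} {φ : ℤ}
    (D : Deg G Ω P t b η f r φ) :
    (∃ H : Subgroup G, IsStronglyEmbedded H) ∨ (r = 3 ∧ ∃ (S : Sylow 2 G) (z v : G), Frame G Ω S z v) := by
  classical
  haveI : Fact (Nat.Prime 2) := ⟨Nat.prime_two⟩
  haveI := h.trans
  haveI : Fintype Ω := Fintype.ofFinite Ω
  obtain ⟨S⟩ : Nonempty (Sylow 2 G) := inferInstance
  have h2 : 2 ∣ Nat.card G := D.ht ▸ orderOf_dvd_natCard t
  obtain ⟨z, hzS, hzo, hcomm⟩ := exists_central_invol S h2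
  have hr3 : r ≤ 3 := by rcases D.rmod with ⟨e, -⟩ | ⟨e, -⟩ <;> omega
  have hr1 : 1 ≤ r := by rcases D.rmod with ⟨e, -⟩ | ⟨e, -⟩ <;> omega
  set L := fixedBy Ω z with hLdef
  have hcardL : L.ncard = r := by rw [← Nat.card_coe_set_eq]; exact D.fix z hzo
  -- a common fixed point
  obtain ⟨α, hα⟩ : ∃ α : Ω, ∀ s ∈ (S : Subgroup G), s • α = α := by
    obtain ⟨α, hα⟩ := S.isPGroup'.nonempty_fixed_point_of_prime_not_dvd_card (α := Ω) (by
      rw [h.hΩ]
      intro hd
      have := Nat.odd_iff.1 h.odd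
      omega)
    exact ⟨α, fun s hs => hα ⟨s, hs⟩⟩
  have hSL : (S : Subgroup G) ≤ stabilizer G L := fun s hs => by
    show s • L = L
    ext x
    rw [Set.mem_smul_set_iff_inv_smul_mem, hLdef, mem_fixedBy, mem_fixedBy, ← mul_smul,
      ← hcomm s⁻¹ (inv_mem hs), mul_smul, smul_left_cancel_iff]
  by_cases hall : ∀ u ∈ (S : Subgroup G), orderOf u = 2 → ∀ x ∈ L, u • x = x
  · refine Or.inl ⟨_, stronglyEmbedded_of_fix S (L := L) ⟨α, hα z hzS⟩ ?_ hSL hzS hzo fun u hu hu2 => ?_⟩
    · intro e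
      rw [e, Set.ncard_univ, h.hΩ] at hcardL
      have := h.hp5
      omega
    · refine (Set.eq_of_subset_of_ncard_le (fun x hx => hall u hu hu2 x hx) ?_ (Set.toFinite _)).symm
      rw [hcardL]
      exact ((Nat.card_coe_set_eq (fixedBy Ω u)).symm.trans (D.fix u hu2)).le
  push Not at hall
  obtain ⟨v, hvS, hv, β, hβ, hvβ⟩ := hall
  have hαL : α ∈ L := hα z hzS
  have hαβ : α ≠ β := fun e => hvβ (e ▸ hα v hvS)
  have hr : r = 3 := by
    rcases D.rmod with ⟨e, -⟩ | ⟨e, -⟩
    · rw [e, Set.ncard_eq_one] at hcardL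
      obtain ⟨a, ha⟩ := hcardL
      rw [ha] at hαL hβ
      exact absurd ((Set.mem_singleton_iff.1 hαL).trans (Set.mem_singleton_iff.1 hβ).symm) hαβ
    · exact e
  refine Or.inr ⟨hr, S, z, v, hzS, hzo, hcomm, hvS, hv, ?_, ⟨α, hα⟩, β, hβ, hvβ⟩
  rintro x rfl
  set C := Subgroup.centralizer ({x} : Set (S : Subgroup G)) with hC
  have hcv : (fixedBy Ω (x : G)).ncard = 3 := by rw [← Nat.card_coe_set_eq, D.fix _ hv, hr]
  obtain ⟨δ, hδ, hδα⟩ := Set.exists_ne_of_one_lt_ncard (show 1 < (fixedBy Ω (x : G)).ncard by omega) α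
  have hcomx : ∀ c : C, ((c : (S : Subgroup G)) : G) * x = x * ((c : (S : Subgroup G)) : G) := fun c =>
    congrArg Subtype.val (Subgroup.mem_centralizer_singleton_iff.1 c.2)
  -- the kernel is trivial
  have hker : ∀ c : C, ((c : (S : Subgroup G)) : G) • β = β → ((c : (S : Subgroup G)) : G) • δ = δ → c = 1 := by
    intro c hcβ hcδ
    by_contra hc
    have hc' : orderOf c ≠ 1 := fun e => hc (orderOf_eq_one_iff.1 e)
    obtain ⟨j, hj⟩ := IsPGroup.iff_orderOf.1 (S.isPGroup'.to_subgroup C) c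
    have hj0 : j ≠ 0 := fun e => hc' (by rw [hj, e, pow_zero])
    have hd : orderOf (c ^ 2 ^ (j - 1)) = 2 := by
      rw [orderOf_pow' _ (by positivity), hj, Nat.gcd_eq_right (pow_dvd_pow 2 (by omega)),
        Nat.pow_div (by omega) two_pos, show j - (j - 1) = 1 by omega, pow_one]
    set d : G := (((c ^ 2 ^ (j - 1) : C) : (S : Subgroup G)) : G) with hddef
    have hdo : orderOf d = 2 := by rw [hddef, Subgroup.orderOf_coe, Subgroup.orderOf_coe, hd]
    have hfixpow : ∀ (a : Ω), ((c : (S : Subgroup G)) : G) • a = a → d • a = a := fun a ha => by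
      rw [hddef, SubmonoidClass.coe_pow, SubmonoidClass.coe_pow]
      exact Subgroup.pow_mem (stabilizer G a) ha _
    have h1 : d • α = α := hα d (SetLike.coe_mem _)
    have h4 : d • ((x : G) • β) = (x : G) • β := by
      rw [← mul_smul, hddef, hcomx, mul_smul, ← hddef, hfixpow β hcβ]
    have hδx : (x : G) • δ = δ := hδ
    have hsub : ({α, β, (x : G) • β, δ} : Set Ω) ⊆ fixedBy Ω d := by
      intro a ha
      simp only [Set.mem_insert_iff, Set.mem_singleton_iff] at ha
      rcases ha with rfl | rfl | rfl | rfl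
      exacts [h1, hfixpow _ hcβ, h4, hfixpow _ hcδ]
    have hdist : ({α, β, (x : G) • β, δ} : Set Ω).ncard = 4 := by
      rw [Set.ncard_eq_succ, ]
      exact ⟨α, {β, (x : G) • β, δ}, by
        simp only [Set.mem_insert_iff, Set.mem_singleton_iff, not_or]
        refine ⟨hαβ, fun e => hαβ ?_, hδα.symm⟩
        rw [← hα x x.2] at e
        exact smul_left_cancel _ e, rfl, Set.ncard_eq_three.2 ⟨β, (x : G) • β, δ, Ne.symm hvβ,
          fun e => hvβ (by rw [e, hδx]), fun e => hvβ (by rw [← hδx] at e; rw [smul_left_cancel _ e, hδx]), rfl⟩⟩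
    have h5 := Set.ncard_le_ncard hsub (Set.toFinite _)
    rw [hdist, ← Nat.card_coe_set_eq, D.fix d hdo] at h5
    omega
  have hmapsL : ∀ c : C, ((c : (S : Subgroup G)) : G) • β ∈ L \ {α} := fun c => by
    refine ⟨?_, fun e => hαβ ?_⟩
    · show z • (_ • β) = _ • β
      rw [← mul_smul, ← hcomm _ (c : (S : Subgroup G)).2, mul_smul, hβ]
    · rw [Set.mem_singleton_iff, ← hα _ (c : (S : Subgroup G)).2] at e
      exact (smul_left_cancel _ e).symm
  have hmapsV : ∀ c : C, ((c : (S : Subgroup G)) : G) • δ ∈ fixedBy Ω (x : G) \ {α} := fun c => by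
    refine ⟨?_, fun e => hδα ?_⟩
    · show (x : G) • (_ • δ) = _ • δ
      rw [← mul_smul, ← hcomx c, mul_smul, hδ]
    · rw [Set.mem_singleton_iff, ← hα _ (c : (S : Subgroup G)).2] at e
      exact smul_left_cancel _ e
  refine le_antisymm ?_ ?_
  · refine (Nat.card_le_card_of_injective
      (fun c : C => ((⟨_, hmapsL c⟩, ⟨_, hmapsV c⟩) :
        (L \ {α} : Set Ω) × (fixedBy Ω (x : G) \ {α} : Set Ω))) fun c c' e => ?_).trans ?_
    · simp only [Prod.mk.injEq, Subtype.mk.injEq] at e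
      have h0 := hker (c⁻¹ * c') (by
          simp only [Subgroup.coe_mul, Subgroup.coe_inv, mul_smul]
          rw [← e.1, inv_smul_smul]) (by
          simp only [Subgroup.coe_mul, Subgroup.coe_inv, mul_smul]
          rw [← e.2, inv_smul_smul])
      exact inv_mul_eq_one.1 h0
    · rw [Nat.card_prod, Nat.card_coe_set_eq, Nat.card_coe_set_eq,
        Set.ncard_sdiff_singleton_of_mem (show α ∈ fixedBy Ω (x : G) from hα x x.2),
        Set.ncard_sdiff_singleton_of_mem hαL, hcv, hcardL, hr]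
  · have hzx : z ≠ (x : G) := fun e => hvβ (e ▸ hβ)
    have hx1 : (x : G) ≠ 1 := fun e => by rw [e, orderOf_one] at hv; omega
    have hz1 : z ≠ 1 := fun e => by subst e; simp at hzo
    set z' : C := ⟨⟨z, hzS⟩, Subgroup.mem_centralizer_singleton_iff.2 (Subtype.ext (hcomm x x.2).symm)⟩
    set x' : C := ⟨x, Subgroup.mem_centralizer_singleton_iff.2 rfl⟩
    have : ({1, z', x', z' * x'} : Set C).ncard = 4 := by
      have hx2 : (x : G) * x = 1 := by rw [← sq]; exact orderOf_dvd_iff_pow_eq_one.1 hv.dvd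
      have hinj : ∀ a c : C, ((a : (S : Subgroup G)) : G) ≠ ((c : (S : Subgroup G)) : G) → a ≠ c :=
        fun a c hac e => hac (by rw [e])
      rw [Set.ncard_eq_succ]
      refine ⟨1, {z', x', z' * x'}, ?_, rfl, Set.ncard_eq_three.2 ⟨z', x', z' * x', hinj _ _ hzx, ?_, ?_, rfl⟩⟩
      · simp only [Set.mem_insert_iff, Set.mem_singleton_iff, not_or]
        refine ⟨hinj _ _ hz1.symm, hinj _ _ hx1.symm, hinj _ _ fun e => hzx ?_⟩
        have e' : (1 : G) = z * x := e
        rw [eq_inv_of_mul_eq_one_left e'.symm, inv_eq_of_mul_eq_one_right hx2]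
      · exact fun e => hx1 (congrArg (fun a : C => ((a : (S : Subgroup G)) : G)) (left_eq_mul.1 e))
      · exact fun e => hz1 (congrArg (fun a : C => ((a : (S : Subgroup G)) : G)) (right_eq_mul.1 e))
    rw [← this]
    exact (Set.ncard_le_ncard (Set.subset_univ _) (Set.toFinite _)).trans (Set.ncard_univ _).le

end CfsgLib.DegreeThreeP
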