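import Cfsg.Agent.Lib.DicksonFull.Subgroups

/-!
# Groups of degree `3p`: subgroups of order `q (q - 1) / 3` of `PSL(2, q)`
-/

set_option autoImplicit false
set_option linter.style.haveILetI false

namespace CfsgLib.DegreeThreeP

theorem psl_third {F : Type*} [Field F] [Fintype F]
    {H : Subgroup (Matrix.ProjectiveSpecialLinearGroup (Fin 2) F)} (hH : IsCoatom H)
    (hcard : 3 * Nat.card H = Fintype.card F * (Fintype.card F - 1))
    (hidx : H.index ≠ Fintype.card F + 1) : Fintype.card F ≤ 13 := by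
  obtain ⟨l, hl⟩ := CharP.exists F
  obtain ⟨a, hlp, -⟩ := FiniteField.card F l
  haveI := Fact.mk hlp
  haveI := hl
  set q := Fintype.card F with hqdef
  by_contra hlt
  have hbig : 14 * (q - 1) ≤ q * (q - 1) := Nat.mul_le_mul_right _ (by omega)
  rcases DicksonFull.proper_cases l hH.1 with ⟨k, hk, hkk⟩ | ⟨⟨e⟩⟩ | ⟨⟨e⟩⟩ | ⟨⟨e⟩⟩ | ⟨u, hu, hub⟩ |
    ⟨Q, m, K, _, _, -, hQ3, hm2, hQm, hHQ, -, -⟩
  · have hle : Nat.card H ≤ 2 * k := by
      rcases hkk with ⟨-, h⟩ | e
      · omega
      · obtain ⟨e⟩ := e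
        rw [Nat.card_congr e.toEquiv, DihedralGroup.nat_card]
    have hd : ∀ n, 2 ≤ n → k ∣ n / Nat.gcd 2 (q - 1) → k ≤ n := fun n hn hk => by
      have h1 : Nat.gcd 2 (q - 1) ≤ 2 := Nat.le_of_dvd two_pos (Nat.gcd_dvd_left _ _)
      have h2 := Nat.gcd_pos_of_pos_left (q - 1) (show 0 < 2 by norm_num)
      exact (Nat.le_of_dvd (Nat.div_pos (h1.trans hn) h2) hk).trans (Nat.div_le_self _ _)
    rcases hk with hk | hk <;> have := hd _ (by omega) hk <;> omega
  · have : Nat.card H = 12 := by rw [Nat.card_congr e.toEquiv, nat_card_alternatingGroup]; simp; decide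
    omega
  · have : Nat.card H = 24 := by
      rw [Nat.card_congr e.toEquiv, Nat.card_perm, Nat.card_fin]; decide
    omega
  · have : Nat.card H = 60 := by rw [Nat.card_congr e.toEquiv, nat_card_alternatingGroup]; simp; decide
    omega
  · have hne : DicksonFull.bor u ≠ ⊤ := fun e => by
      have := DicksonFull.index_bor l hu
      rw [e, Subgroup.index_top] at this
      omega
    have : H = DicksonFull.bor u := by
      by_contra h
      exact hne (hH.2 _ (lt_of_le_of_ne hub h))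
    exact hidx (this ▸ DicksonFull.index_bor l hu)
  · have hQq : Q ^ 2 ≤ q := (Nat.pow_le_pow_right (by omega) hm2).trans_eq hQm
    have h1 : Q * (Q ^ 2 - 1) ≤ Q * (q - 1) := Nat.mul_le_mul_left _ (by omega)
    have h2 : q * (q - 1) ≤ 3 * (Q * (q - 1)) := by omega
    rw [← mul_assoc] at h2
    have h3 : q ≤ 3 * Q := Nat.le_of_mul_le_mul_right h2 (by omega)
    have : Q * Q ≤ Q * 3 := by rw [← sq, mul_comm Q 3]; omega
    have := Nat.le_of_mul_le_mul_left this (by omega)
    omega

end CfsgLib.DegreeThreeP
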