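import Cfsg.Agent.Lib.DegreeThreeP.Bender
import Cfsg.Agent.Lib.DegreeThreeP.Gorenstein
import Cfsg.Agent.Lib.DegreeThreeP.PSLCase
import Cfsg.Agent.Lib.SmallSylow.PredTwo.Main
import Cfsg.Agent.Lib.SmallSylow.Apply
import Cfsg.Agent.Lib.SmallOrder
import Cfsg.Agent.Lib.SmallSimple.Order360
import Cfsg.Agent.S4706

/-!
# Groups of degree `3p`: the classification
-/

set_option autoImplicit false
set_option linter.style.haveILetI false
set_option linter.unusedSectionVars false

namespace CfsgLib.DegreeThreeP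

open Cfsg MulAction CfsgLib.CharTheory CfsgLib.Blocks
open scoped Pointwise

universe u v

variable {G : Type u} [Group G] [Fintype G] {Ω : Type v} [MulAction G Ω] [Finite Ω]
  {p : ℕ} [Fact p.Prime] {P : Sylow p G}

theorem Hyp.not_normal (h : Hyp G Ω P) : ¬ (P : Subgroup G).Normal := by
  intro hn
  haveI := h.simple
  have hp : p.Prime := Fact.out
  rcases hn.eq_bot_or_eq_top with e | e
  · have := h.hP
    rw [show Nat.card P = Nat.card (P : Subgroup G) from rfl, e, Subgroup.card_bot] at this
    exact hp.ne_one this.symm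
  · refine h.noncomm fun a b => ?_
    have hb : b ∈ Subgroup.centralizer ((P : Subgroup G) : Set G) := by rw [h.hC, e]; trivial
    exact Subgroup.mem_centralizer_iff.1 hb a (by rw [e]; trivial)

theorem transport_coatom {A B : Type*} [Group A] [Group B] (e : A ≃* B) {H : Subgroup A} (hH : IsCoatom H) :
    IsCoatom (H.map (e : A →* B)) ∧ (H.map (e : A →* B)).index = H.index ∧
      Nat.card (H.map (e : A →* B)) = Nat.card H :=
  ⟨(e.mapSubgroup.isCoatom_iff H).2 hH, Subgroup.index_map_equiv H e,
    (Nat.card_congr (H.equivMapOfInjective _ e.injective).toEquiv).symm⟩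

theorem case_pred (h : Hyp G Ω P) {t : G} {b η : IrrCharacter G} {f r : ℕ} {φ : ℤ}
    (D : Deg G Ω P t b η f r φ) (hf : f + 1 = p) {H : Subgroup G} (hH : IsCoatom H)
    (hidx : H.index = 3 * p) : False := by
  haveI := h.simple
  have hp : p.Prime := Fact.out
  have hp5 := h.hp5
  have hmul := H.card_mul_index
  rw [hidx] at hmul
  by_cases h5 : p = 5
  · have hG := degree_four h D hf h5
    haveI : Fact (Nat.Prime 2) := ⟨Nat.prime_two⟩
    have hH4 : Nat.card H = 4 := by rw [hG, h5] at hmul; omega
    have hpg : IsPGroup 2 H := IsPGroup.of_card (n := 2) (by rw [hH4]; norm_num)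
    obtain ⟨S, hS⟩ := hpg.exists_le_sylow
    have hHS : (S : Subgroup G) = H := by
      rcases hS.eq_or_lt with e | e
      · exact e.symm
      · exfalso
        have h1 := hH.2 _ e
        obtain ⟨k, hk⟩ := IsPGroup.iff_card.1 S.isPGroup'
        rw [h1, Subgroup.card_top, hG] at hk
        have : 3 ∣ 2 ^ k := ⟨20, by omega⟩
        have := Nat.le_of_dvd two_pos (Nat.prime_three.dvd_of_dvd_pow this)
        omega
    have hN : Subgroup.normalizer ((S : Subgroup G) : Set G) = H := by
      by_contra hne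
      have hle : H ≤ Subgroup.normalizer ((S : Subgroup G) : Set G) := hHS.ge.trans Subgroup.le_normalizer
      have h1 := hH.2 _ (lt_of_le_of_ne hle (Ne.symm hne))
      rw [hHS] at h1
      have hn := Subgroup.normalizer_eq_top_iff.1 h1
      rcases hn.eq_bot_or_eq_top with e | e
      · rw [e, Subgroup.card_bot] at hH4; omega
      · rw [e, Subgroup.card_top, hG] at hH4; omega
    haveI : IsMulCommutative H := IsPGroup.isMulCommutative_of_card_eq_prime_sq (p := 2) (by rw [hH4]; norm_num)
    have := SmallOrder.card_eq_sylow_of_normalizer_le_centralizer S (by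
      show Subgroup.normalizer ((S : Subgroup G) : Set G) ≤ Subgroup.centralizer ((S : Subgroup G) : Set G)
      rw [hN, hHS]; exact Subgroup.le_centralizer H) (by
      intro e; rw [← hHS, e, Subgroup.card_bot] at hH4; omega)
    rw [hG, show Nat.card S = Nat.card (S : Subgroup G) from rfl, hHS, hH4] at this
    omega
  · have hη1 : (η : G → ℂ) 1 = ((p - 2 : ℕ) : ℂ) := by
      rw [D.rel 1 (by rw [orderOf_one]; exact hp.not_dvd_one), D.fdef,
        show f = (p - 2) + 1 by omega, Nat.cast_add, Nat.cast_one, add_sub_cancel_right]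
    have hne : η ≠ oneIrr G := fun e => by
      rw [e] at hη1
      simp only [oneIrr] at hη1
      have h1 : ((1 : ℕ) : ℂ) = ((p - 2 : ℕ) : ℂ) := by rw [Nat.cast_one]; exact hη1
      rw [Nat.cast_inj] at h1
      omega
    obtain ⟨a, F, _, _, hpa, hF, ⟨e⟩⟩ := SmallSylow.PredTwo.exists_sl (by omega) P h.hP h.not_normal
      (fun g hg => h.irr_faithful hne hg)
      (Nat.cast_injective (R := ℂ) (by rw [irr_charDegree_cast, hη1]))
    have hZ : Subgroup.center G = ⊥ :=
      (Subgroup.Normal.eq_bot_or_eq_top (inferInstance : (Subgroup.center G).Normal)).resolve_right fun e' =>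
        h.noncomm fun x y => (Subgroup.mem_center_iff.1 (e' ▸ Subgroup.mem_top y) x)
    haveI : Unique (Subgroup.center G) := by rw [hZ]; exact inferInstanceAs (Unique (⊥ : Subgroup G))
    obtain ⟨e'⟩ := SmallSylow.sl_mulEquiv_psl hF
    let i : G ≃* Matrix.ProjectiveSpecialLinearGroup (Fin 2) F := (e.trans MulEquiv.prodUnique).trans e'
    obtain ⟨hH', hidx', hc'⟩ := transport_coatom i hH
    have hG : Nat.card G = Fintype.card F * (Fintype.card F ^ 2 - 1) := by
      rw [Nat.card_congr (e.trans MulEquiv.prodUnique).toEquiv, SLCard.card_SL_two]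
    have hq : p = Fintype.card F + 1 := by rw [hF]; exact hpa
    have h13 : Fintype.card F ≤ 13 := by
      refine psl_third hH' ?_ (by rw [hidx', hidx]; omega)
      rw [hc']
      refine Nat.eq_of_mul_eq_mul_right hp.pos ?_
      rw [mul_comm 3, mul_assoc, hmul, hG, ← one_pow 2, Nat.sq_sub_sq, one_pow, hq]
      ring
    rw [hF] at h13
    have ha : a ≤ 3 := by
      by_contra hlt
      have := Nat.pow_le_pow_right (show 0 < 2 by norm_num) (show 4 ≤ a by omega)
      omega
    interval_cases a <;> norm_num at hpa <;> subst hpa <;> first | omega | norm_num at hp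

theorem primitive_case (h : Hyp G Ω P) [MulAction.IsPreprimitive G Ω] :
    p = 5 ∧ Nonempty (G ≃* ↥(alternatingGroup (Fin 6))) := by
  haveI := h.simple
  haveI := h.trans
  have hp : p.Prime := Fact.out
  have hp5 := h.hp5
  haveI : Nonempty Ω := (Nat.card_pos_iff.1 (by rw [h.hΩ]; omega)).1
  haveI : Nontrivial Ω := by
    haveI : Fintype Ω := Fintype.ofFinite Ω
    rw [← Fintype.one_lt_card_iff_nontrivial, ← Nat.card_eq_fintype_card, h.hΩ]; omega
  obtain ⟨x⟩ := ‹Nonempty Ω›
  have hH : IsCoatom (stabilizer G x) := (MulAction.isCoatom_stabilizer_iff_preprimitive G x).2 inferInstance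
  have hidx : (stabilizer G x).index = 3 * p := by rw [MulAction.index_stabilizer_of_transitive, h.hΩ]
  obtain ⟨t, b, η, f, r, φ, D⟩ := exists_deg h
  rcases D.fcases with hf | hf
  · exact (case_pred h D hf hH hidx).elim
  rcases local_cases h D with ⟨K, hK⟩ | ⟨hr, S, z, v, Fr⟩
  · exact absurd hK (not_stronglyEmbedded h D hf K)
  obtain ⟨-, F, _, _, hodd, hq, hG, ⟨i⟩⟩ := frame_psl h D hr hf Fr
  obtain ⟨hH', hidx', hc'⟩ := transport_coatom i hH
  have hmul := (stabilizer G x).card_mul_index
  rw [hidx] at hmul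
  have h13 : Fintype.card F ≤ 13 := by
    refine psl_third hH' ?_ (by rw [hidx', hidx]; omega)
    rw [hc']
    refine Nat.eq_of_mul_eq_mul_right (show 0 < Fintype.card F + 1 by omega) ?_
    rw [mul_assoc (Fintype.card F), mul_comm (Fintype.card F - 1), ← Nat.sq_sub_sq, one_pow, ← hG, ← hmul, hq]
    ring
  have hp4 : p % 4 = 1 := by rcases D.rmod with ⟨e, -⟩ | ⟨-, e⟩ <;> omega
  obtain rfl : p = 5 := by omega
  refine ⟨rfl, Order360.iso_A6 ?_⟩
  rw [show Fintype.card F = 9 by omega] at hG
  omega

theorem imprimitive_case (h : Hyp G Ω P) (hN : Nat.card ↥(Subgroup.normalizer ((P : Subgroup G) : Set G)) = 2 * p)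
    (himp : ¬ MulAction.IsPreprimitive G Ω) :
    ∃ (F : Type) (_ : Field F) (_ : Fintype F) (m : ℕ), Fintype.card F = 2 ^ m ∧ p = 2 ^ m + 1 ∧
      Nonempty (G ≃* Matrix.ProjectiveSpecialLinearGroup (Fin 2) F) := by
  classical
  haveI := h.simple
  haveI := h.trans
  have hp : p.Prime := Fact.out
  have hp5 := h.hp5
  haveI : Nonempty Ω := (Nat.card_pos_iff.1 (by rw [h.hΩ]; omega)).1
  haveI : Nontrivial Ω := by
    haveI : Fintype Ω := Fintype.ofFinite Ω
    rw [← Fintype.one_lt_card_iff_nontrivial, ← Nat.card_eq_fintype_card, h.hΩ]; omega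
  obtain ⟨x⟩ := ‹Nonempty Ω›
  have hidx : (stabilizer G x).index = 3 * p := by rw [MulAction.index_stabilizer_of_transitive, h.hΩ]
  have hne : stabilizer G x ≠ ⊤ := fun e => by rw [e, Subgroup.index_top] at hidx; omega
  obtain ⟨M, hM1, hM2⟩ : ∃ M, stabilizer G x < M ∧ M ≠ ⊤ := by
    by_contra hc
    push Not at hc
    exact himp ((MulAction.isCoatom_stabilizer_iff_preprimitive G x).1 ⟨hne, hc⟩)
  have hrel := Subgroup.relIndex_mul_index hM1.le
  rw [hidx] at hrel
  have hM1' : M.index ≠ 1 := fun e => hM2 (Subgroup.index_eq_one.1 e)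
  have hMp : M.index = p := by
    obtain ⟨d1, d2, h1, h2, h12⟩ := Nat.dvd_mul.1 (show M.index ∣ 3 * p from ⟨_, by rw [← hrel, mul_comm]⟩)
    rcases (Nat.dvd_prime Nat.prime_three).1 h1 with rfl | rfl <;>
      rcases (Nat.dvd_prime hp).1 h2 with h2 | h2 <;> subst d2
    · exact absurd h12.symm hM1'
    · rw [← h12, one_mul]
    · exfalso
      have h6 := (dvd_mul_left p 3).trans h.degree_dvd |>.trans (SmallOrder.card_dvd_factorial_index hM2)
      rw [← h12, mul_one] at h6
      norm_num [Nat.factorial] at h6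
      have := Nat.le_of_dvd (by norm_num) h6
      interval_cases p <;> norm_num at *
    · exfalso
      rw [← h12] at hrel
      have h1' : (stabilizer G x).relIndex M = 1 := by
        refine Nat.eq_of_mul_eq_mul_right (show 0 < 3 * p by omega) ?_
        rw [hrel, one_mul]
      exact hM1.not_ge (Subgroup.relIndex_eq_one.1 h1')
  haveI : Fintype (G ⧸ M) := Fintype.ofFinite _
  have hcard : Fintype.card (G ⧸ M) = p := by
    rw [← Nat.card_eq_fintype_card]; exact hMp
  let ψ := MulAction.toPermHom G (G ⧸ M)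
  have hψ : Function.Injective ψ := by
    rw [← MonoidHom.ker_eq_bot_iff]
    rcases (Subgroup.Normal.eq_bot_or_eq_top (inferInstance : ψ.ker.Normal)) with e | e
    · exact e
    · exfalso; apply hM2
      rw [← Subgroup.normalCore_eq_ker] at e
      exact top_le_iff.mp (e.ge.trans M.normalCore_le)
  let ε : G ≃* ψ.range := MonoidHom.ofInjective hψ
  let Q : Sylow p ψ.range := P.mapSurjective (f := (ε : G →* ψ.range)) ε.surjective
  have hQ : (Q : Subgroup ψ.range) = (P : Subgroup G).map (ε : G →* ψ.range) := Sylow.coe_mapSurjective _ _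
  have hNQ : Nat.card (Subgroup.normalizer ((Q : Subgroup ψ.range) : Set ψ.range)) = 2 * p := by
    rw [hQ, show (P : Subgroup G).map (ε : G →* ψ.range) = (P : Subgroup G).map ε.toMonoidHom from rfl,
      ← Subgroup.map_equiv_normalizer_eq (P : Subgroup G) ε, ← hN]
    exact (Nat.card_congr ((Subgroup.normalizer ((P : Subgroup G) : Set G)).equivMapOfInjective _
      ε.injective).toEquiv).symm
  rcases Cfsg.Agent.S4706.result (by omega) hcard ψ.range Q hNQ with hn | ⟨a, F, _, _, hpa, hF, ⟨e⟩⟩
  · exfalso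
    refine h.not_normal ?_
    have h1 := hn.comap (ε : G →* ψ.range)
    rwa [hQ, Subgroup.comap_map_eq_self_of_injective (f := (ε : G →* ψ.range)) ε.injective] at h1
  · obtain ⟨e'⟩ := SmallSylow.sl_mulEquiv_psl hF
    exact ⟨F, inferInstance, inferInstance, a, hF, hpa, ⟨(ε.trans e).trans e'⟩⟩

end CfsgLib.DegreeThreeP
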